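import Mathlib
import Groth.Prelude.Def_Coh

/-!
Sections of quasi-coherent modules over affine opens vanishing on a basic open.
-/

universe u

open CategoryTheory Limits AlgebraicGeometry TopologicalSpace Opposite

namespace H29Blow

variable {X : Scheme.{u}}

lemma res_eq_appIso_inv {U : X.Opens} (hU : IsAffineOpen U) (h : hU.fromSpec ''ᵁ ⊤ ≤ U) :
    (Scheme.ΓSpecIso Γ(X, U)).inv ≫ (hU.fromSpec.appIso ⊤).inv =
      X.presheaf.map (homOfLE h).op := by
  rw [Iso.inv_comp_eq, ← cancel_mono (hU.fromSpec.appIso ⊤).hom]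
  simp [Scheme.Hom.appIso_hom', Scheme.Hom.map_appLE, Scheme.Hom.appLE, hU.fromSpec_app_self]
  simp only [← Functor.map_comp]
  exact congrArg _ (Subsingleton.elim _ _)

theorem exists_pow_smul_eq_zero_Spec {R : CommRingCat.{u}} (M : (Spec R).Modules)
    [M.IsQuasicoherent] (t : R) (s : Γ(M, ⊤))
    (hs : M.presheaf.map (homOfLE (le_top : PrimeSpectrum.basicOpen t ≤ ⊤)).op s = 0) :
    ∃ n : ℕ, ((Scheme.ΓSpecIso R).inv (t ^ n)) • s = 0 := by
  have hloc := (isIso_fromTildeΓ_iff_isLocalizing M).mp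
    ((isQuasicoherent_iff_isIso_fromTildeΓ M).mp inferInstance) t
  let g := ((modulesSpecToSheaf.obj M).obj.map (PrimeSpectrum.basicOpen t).leTop.op).hom
  have hg : IsLocalizedModule (Submonoid.powers t) g := hloc
  have h0 : g s = 0 := hs
  obtain ⟨⟨_, n, rfl⟩, hn⟩ := (IsLocalizedModule.eq_zero_iff (Submonoid.powers t) g (m := s)).mp h0
  refine ⟨n, ?_⟩
  have h1 : ((t ^ n : R) • s : Γ(M, ⊤)) = 0 := hn
  rw [Scheme.Modules.smul_Spec_def] at h1
  have hid : (⊤ : (Spec R).Opens).leTop.op = 𝟙 _ := Subsingleton.elim _ _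
  rw [hid, CategoryTheory.Functor.map_id] at h1
  exact h1

/-- A section of a quasi-coherent module over an affine open killed on a basic open `D(t)` is
killed by a power of `t`. -/
theorem exists_pow_smul_eq_zero (F : X.Modules) (hF : Coh.IsQCoh F) {U : X.Opens}
    (hU : IsAffineOpen U) (t : Γ(X, U)) (s : Γ(F, U))
    (hs : F.presheaf.map (homOfLE (X.basicOpen_le t)).op s = 0) :
    ∃ n : ℕ, t ^ n • s = 0 := by
  haveI : F.IsQuasicoherent := hF
  have htop : hU.fromSpec ''ᵁ ⊤ = U := by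
    rw [Scheme.Hom.image_top_eq_opensRange, hU.opensRange_fromSpec]
  have hle : hU.fromSpec ''ᵁ PrimeSpectrum.basicOpen t ≤ X.basicOpen t :=
    (hU.fromSpec_image_basicOpen t).le
  have hs' : F.presheaf.map (homOfLE (Scheme.Hom.image_mono hU.fromSpec (le_top : PrimeSpectrum.basicOpen t ≤ (⊤ : (Spec Γ(X, U)).Opens)))).op
      (F.presheaf.map (homOfLE htop.le).op s) = 0 := by
    have := congrArg (F.presheaf.map (homOfLE hle).op) hs
    rw [map_zero, ← ConcreteCategory.comp_apply, ← Functor.map_comp] at this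
    refine Eq.trans ?_ this
    refine Eq.trans (ConcreteCategory.comp_apply _ _ s).symm ?_
    exact congr($((F.presheaf.map_comp _ _).symm.trans (congrArg F.presheaf.map (Subsingleton.elim _ _))) s)
  obtain ⟨n, hn⟩ := exists_pow_smul_eq_zero_Spec (F.restrict hU.fromSpec) t
    ((F.restrictAppIso hU.fromSpec ⊤).inv (F.presheaf.map (homOfLE htop.le).op s)) hs'
  refine ⟨n, ?_⟩
  have h2 : ((hU.fromSpec.appIso ⊤).inv ((Scheme.ΓSpecIso Γ(X, U)).inv (t ^ n))) •
      (F.presheaf.map (homOfLE htop.le).op s) = 0 := hn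
  rw [← ConcreteCategory.comp_apply, res_eq_appIso_inv hU htop.le, ← Scheme.Modules.map_smul] at h2
  have h3 := congrArg (F.presheaf.map (homOfLE htop.ge).op) h2
  rw [map_zero, ← ConcreteCategory.comp_apply, ← Functor.map_comp,
    Subsingleton.elim ((homOfLE htop.le).op ≫ (homOfLE htop.ge).op) (𝟙 _),
    CategoryTheory.Functor.map_id] at h3
  exact h3

end H29Blow
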