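import Groth.Agent.H29Blow.WeakAss

/-!
Associated points of the structure sheaf and of quasi-coherent modules.
-/

universe u

open CategoryTheory Limits AlgebraicGeometry TopologicalSpace

namespace H29Blow

variable {X : Scheme.{u}}

lemma isAssPoint_iff_isWeakAssPoint (F : X.Modules) (x : X) :
    Curv2.IsAssPoint F x ↔ Curv2.IsWeakAssPoint F x := by
  have key : ∀ m : F.presheaf.stalk x,
      Submodule.colon (⊥ : Submodule (X.presheaf.stalk x) (F.presheaf.stalk x)) {m} =
        LinearMap.ker (LinearMap.toSpanSingleton (X.presheaf.stalk x) (F.presheaf.stalk x) m) :=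
    fun m => by
      ext r
      simp [Submodule.mem_colon_singleton, LinearMap.mem_ker]
  constructor
  · rintro ⟨-, m, hm⟩
    exact ⟨m, by rw [← key, ← hm]⟩
  · rintro ⟨m, hm⟩
    exact ⟨(IsLocalRing.maximalIdeal.isMaximal _).isPrime, m, by rw [key, hm]⟩

lemma germ_structureModule_eq_zero_iff {W : X.Opens} {y : X} (hy : y ∈ W) (s : Γ(X, W)) :
    (Coh.structureModule X).presheaf.germ W y hy s = 0 ↔ X.presheaf.germ W y hy s = 0 := by
  constructor <;> intro h
  · obtain ⟨W', hyW', i, j, hW⟩ := (Coh.structureModule X).presheaf.germ_eq y hy hy _ _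
      (h.trans (map_zero ((Coh.structureModule X).presheaf.germ W y hy).hom).symm)
    have h2 : X.presheaf.map i.op s = 0 := hW.trans (map_zero _)
    rw [← TopCat.Presheaf.germ_res_apply X.presheaf i y hyW' s, h2, map_zero]
  · obtain ⟨W', hyW', i, j, hW⟩ := X.presheaf.germ_eq y hy hy _ _
      (h.trans (map_zero (X.presheaf.germ W y hy).hom).symm)
    rw [← TopCat.Presheaf.germ_res_apply (Coh.structureModule X).presheaf i y hyW' s]
    have h2 : (Coh.structureModule X).presheaf.map i.op s = 0 := hW.trans (map_zero _)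
    rw [h2, map_zero]

lemma smul_germ_structureModule_eq_zero_iff {W : X.Opens} {y : X} (hy : y ∈ W) (s : Γ(X, W))
    (a : X.presheaf.stalk y) :
    a • (Coh.structureModule X).presheaf.germ W y hy s = 0 ↔
      a * X.presheaf.germ W y hy s = 0 := by
  obtain ⟨T, hyT, r, rfl⟩ := X.presheaf.germ_exist a
  have hyWT : y ∈ W ⊓ T := ⟨hy, hyT⟩
  have h2 : (Coh.structureModule X).presheaf.germ (W ⊓ T) y hyWT
      ((X.presheaf.map (homOfLE (inf_le_right : W ⊓ T ≤ T)).op r) •
        ((Coh.structureModule X).presheaf.map (homOfLE (inf_le_left : W ⊓ T ≤ W)).op s)) =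
      X.presheaf.germ (W ⊓ T) y hyWT (X.presheaf.map (homOfLE (inf_le_right : W ⊓ T ≤ T)).op r) •
        (Coh.structureModule X).presheaf.germ (W ⊓ T) y hyWT
          ((Coh.structureModule X).presheaf.map (homOfLE (inf_le_left : W ⊓ T ≤ W)).op s) :=
    PresheafOfModules.germ_smul (R := X.presheaf)
      (show PresheafOfModules (X.presheaf ⋙ forget₂ CommRingCat RingCat) from
        (Coh.structureModule X).val) y (W ⊓ T) hyWT _ _
  rw [TopCat.Presheaf.germ_res_apply, TopCat.Presheaf.germ_res_apply] at h2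
  rw [← h2]
  refine (germ_structureModule_eq_zero_iff hyWT
    ((X.presheaf.map (homOfLE (inf_le_right : W ⊓ T ≤ T)).op r) *
      (X.presheaf.map (homOfLE (inf_le_left : W ⊓ T ≤ W)).op s))).trans ?_
  rw [map_mul, TopCat.Presheaf.germ_res_apply, TopCat.Presheaf.germ_res_apply]

/-- Weakly associated points of the structure sheaf in terms of the local rings. -/
lemma isWeakAssPoint_structureModule_iff (x : X) :
    Curv2.IsWeakAssPoint (Coh.structureModule X) x ↔
      IsAssociatedPrime (IsLocalRing.maximalIdeal (X.presheaf.stalk x)) (X.presheaf.stalk x) := by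
  constructor
  · rintro ⟨m, hm⟩
    obtain ⟨W, hxW, s, rfl⟩ := (Coh.structureModule X).presheaf.germ_exist m
    refine ⟨(IsLocalRing.maximalIdeal.isMaximal _).isPrime, X.presheaf.germ W x hxW s, ?_⟩
    rw [← hm]
    congr 1
    ext a
    simp only [LinearMap.mem_ker, LinearMap.toSpanSingleton_apply, Submodule.mem_colon_singleton,
      Submodule.mem_bot, smul_eq_mul]
    exact smul_germ_structureModule_eq_zero_iff hxW s a
  · rintro ⟨-, m, hm⟩
    obtain ⟨W, hxW, s, rfl⟩ := X.presheaf.germ_exist m
    refine ⟨(Coh.structureModule X).presheaf.germ W x hxW s, ?_⟩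
    rw [hm]
    congr 1
    ext a
    simp only [LinearMap.mem_ker, LinearMap.toSpanSingleton_apply, Submodule.mem_colon_singleton,
      Submodule.mem_bot, smul_eq_mul]
    exact smul_germ_structureModule_eq_zero_iff hxW s a

/-- Sections of quasi-coherent modules are zero if their germs at weakly associated points are. -/
lemma eq_zero_of_germ_eq_zero (F : X.Modules) (hF : Coh.IsQCoh F) {V : X.Opens} {s : Γ(F, V)}
    (h : ∀ (y : X) (hy : y ∈ V), Curv2.IsWeakAssPoint F y → F.presheaf.germ V y hy s = 0) :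
    s = 0 := by
  refine TopCat.Presheaf.section_ext (⟨F.presheaf, F.isSheaf⟩ : TopCat.Sheaf Ab.{u} X) V s 0
    fun x hx => ?_
  obtain ⟨W, hW, hxW, hWV⟩ := exists_isAffineOpen_mem_and_subset (U := V) (x := x) hx
  have hWV' : W ≤ V := hWV
  have h0 : F.presheaf.map (homOfLE hWV').op s = 0 := by
    by_contra hne
    obtain ⟨y, hy, hweak, hg⟩ :=
      exists_isWeakAssPoint_germ_ne_zero_of_isQCoh F hF ⟨W, hW⟩ hne
    apply hg
    rw [TopCat.Presheaf.germ_res_apply]
    exact h y (hWV hy) hweak
  change F.presheaf.germ V x hx s = F.presheaf.germ V x hx 0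
  rw [← TopCat.Presheaf.germ_res_apply F.presheaf (homOfLE hWV') x hxW, h0, map_zero, map_zero]

lemma injective_res_of_weakAss_subset (F : X.Modules) (hF : Coh.IsQCoh F) {V U : X.Opens}
    (hUV : U ≤ V) (hU : ∀ x ∈ V, Curv2.IsWeakAssPoint F x → x ∈ U) :
    Function.Injective (F.presheaf.map (homOfLE hUV).op) := by
  rw [injective_iff_map_eq_zero]
  intro s hs
  refine eq_zero_of_germ_eq_zero F hF fun y hy hweak => ?_
  rw [← TopCat.Presheaf.germ_res_apply F.presheaf (homOfLE hUV) y (hU y hy hweak), hs, map_zero]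

lemma isZero_iff (F : X.Modules) (hF : Coh.IsQCoh F) :
    IsZero F ↔ ∀ x : X, ¬ Curv2.IsWeakAssPoint F x := by
  constructor
  · rintro h x ⟨m, hm⟩
    obtain ⟨W, hxW, s, rfl⟩ := F.presheaf.germ_exist m
    have h1 := congrArg (fun φ : F ⟶ F => φ.app W) (h.eq_of_src (𝟙 F) 0)
    have hs : s = 0 := by simpa using congr($h1 s)
    rw [hs, map_zero, LinearMap.toSpanSingleton_zero, LinearMap.ker_zero, Ideal.radical_top] at hm
    exact (IsLocalRing.maximalIdeal.isMaximal _).ne_top hm.symm
  · intro h
    rw [IsZero.iff_id_eq_zero]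
    apply Scheme.Modules.hom_ext
    intro V
    ext s
    have : s = 0 := eq_zero_of_germ_eq_zero F hF fun y _ hy => absurd hy (h y)
    rw [this, map_zero, map_zero]

end H29Blow
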