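import Mathlib

/-!
Primes of an affine open and its points; associated primes under surjections.
-/

universe u

open CategoryTheory Limits AlgebraicGeometry TopologicalSpace

namespace H29Blow

variable {X : Scheme.{u}} {U : X.Opens}

theorem mem_primeIdealOf_iff (hU : IsAffineOpen U) (x : U) (b : Γ(X, U)) :
    b ∈ (hU.primeIdealOf x).asIdeal ↔ ¬ IsUnit (X.presheaf.germ U x.1 x.2 b) := by
  letI := TopCat.Presheaf.algebra_section_stalk X.presheaf x
  haveI := hU.isLocalization_stalk x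
  rw [← IsLocalization.AtPrime.to_map_mem_maximal_iff (X.presheaf.stalk x.1) (hU.primeIdealOf x).asIdeal b,
    IsLocalRing.mem_maximalIdeal, mem_nonunits_iff]
  rfl

theorem primeIdealOf_le_iff (hU : IsAffineOpen U) (x y : U) :
    (hU.primeIdealOf x).asIdeal ≤ (hU.primeIdealOf y).asIdeal ↔ x.1 ⤳ y.1 := by
  rw [PrimeSpectrum.asIdeal_le_asIdeal, PrimeSpectrum.le_iff_specializes]
  conv_rhs => rw [← hU.fromSpec_primeIdealOf x, ← hU.fromSpec_primeIdealOf y]
  exact ⟨fun h => h.map hU.fromSpec.continuous, fun h => hU.fromSpec.isOpenEmbedding.isEmbedding.specializes_iff.mp h⟩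

theorem exists_primeIdealOf_eq (hU : IsAffineOpen U) (q : PrimeSpectrum Γ(X, U)) :
    ∃ x : U, hU.primeIdealOf x = q := by
  have h : hU.fromSpec q ∈ U := by
    have : hU.fromSpec q ∈ Set.range hU.fromSpec := ⟨q, rfl⟩
    rwa [hU.range_fromSpec] at this
  exact ⟨⟨_, h⟩, hU.fromSpec.isOpenEmbedding.injective (hU.fromSpec_primeIdealOf ⟨_, h⟩)⟩

theorem minimalPrimes_iff_maximal_point (hU : IsAffineOpen U) (x : U) :
    (hU.primeIdealOf x).asIdeal ∈ minimalPrimes Γ(X, U) ↔ ∀ y : X, y ⤳ x.1 → y = x.1 := by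
  constructor
  · intro h y hy
    have hyU : y ∈ U := hy.mem_open U.2 x.2
    have hle := (primeIdealOf_le_iff hU ⟨y, hyU⟩ x).mpr hy
    have hge := h.2 ⟨(hU.primeIdealOf ⟨y, hyU⟩).isPrime, bot_le⟩ hle
    exact (((primeIdealOf_le_iff hU x ⟨y, hyU⟩).mp hge).antisymm hy).eq.symm
  · intro h
    refine ⟨⟨(hU.primeIdealOf x).isPrime, bot_le⟩, fun q hq hle => ?_⟩
    obtain ⟨y, hy⟩ := exists_primeIdealOf_eq hU ⟨q, hq.1⟩
    have hyq : (hU.primeIdealOf y).asIdeal = q := congrArg PrimeSpectrum.asIdeal hy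
    have := h y.1 ((primeIdealOf_le_iff hU y x).mp (hyq ▸ hle))
    rw [← hyq, show y = x from Subtype.ext this]

/-- Associated primes of `A ⧸ ker π` come from associated primes of the target. -/
theorem exists_associatedPrime_of_ker {A D : Type u} [CommRing A] [CommRing D] [IsNoetherianRing A]
    [IsNoetherianRing D] (π : A →+* D) (hπ : Function.Surjective π) {p : Ideal A}
    (hp : p ∈ associatedPrimes A (A ⧸ RingHom.ker π)) :
    ∃ q ∈ associatedPrimes D D, p = q.comap π := by
  rw [AssociatedPrimes.mem_iff, isAssociatedPrime_iff] at hp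
  obtain ⟨hp, x, hx⟩ := hp
  obtain ⟨x, rfl⟩ := Ideal.Quotient.mk_surjective x
  have key : p = ((⊥ : Submodule D D).colon {π x}).comap π := by
    ext a
    rw [hx, Submodule.mem_colon_singleton, Ideal.mem_comap, Submodule.mem_colon_singleton,
      Submodule.mem_bot, Submodule.mem_bot, smul_eq_mul, ← map_mul, ← RingHom.mem_ker,
      ← Ideal.Quotient.eq_zero_iff_mem]
    rfl
  have hq : ((⊥ : Submodule D D).colon {π x}).IsPrime := by
    haveI : (((⊥ : Submodule D D).colon {π x}).comap π).IsPrime := key ▸ hp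
    rw [← Ideal.map_comap_of_surjective π hπ ((⊥ : Submodule D D).colon {π x})]
    exact Ideal.map_isPrime_of_surjective hπ (Ideal.ker_le_comap π)
  exact ⟨_, (AssociatedPrimes.mem_iff).mpr (isAssociatedPrime_iff.mpr ⟨hq, π x, rfl⟩), key⟩

end H29Blow
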