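import Groth.Agent.H29Blow.MaxPoints
import Groth.Prelude.Def_CurvBase
import Groth.Prelude.Def_Coh
import Groth.Agent.H29Blow.QCohLoc

/-!
Weakly associated points of the structure sheaf detect nonzero sections.
-/

universe u

open CategoryTheory Limits AlgebraicGeometry TopologicalSpace

namespace H29Blow

variable {X : Scheme.{u}}

lemma isUnit_germ_of_maximal {x : X} (hx : ∀ y : X, y ⤳ x → y = x)
    {g : X.presheaf.stalk x} (hg : g ∈ nonZeroDivisors (X.presheaf.stalk x)) : IsUnit g := by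
  by_contra hne
  have hsub : ∀ p : PrimeSpectrum (X.presheaf.stalk x),
      p = IsLocalRing.closedPoint (X.presheaf.stalk x) := by
    intro p
    apply (X.fromSpecStalk x).isEmbedding.injective
    have : (X.fromSpecStalk x) p ∈ Set.range (X.fromSpecStalk x) := ⟨p, rfl⟩
    rw [Scheme.range_fromSpecStalk] at this
    rw [hx _ this]
    exact Scheme.fromSpecStalk_closedPoint.symm
  have hnil : IsNilpotent g := by
    rw [← mem_nilradical, nilradical_eq_sInf, Ideal.mem_sInf]
    intro P hP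
    have := congrArg PrimeSpectrum.asIdeal (hsub ⟨P, hP⟩)
    simp only [IsLocalRing.closedPoint] at this
    rw [this, IsLocalRing.mem_maximalIdeal]
    exact hne
  obtain ⟨n, hn⟩ := hnil
  exact zero_ne_one ((mem_nonZeroDivisors_iff_right.mp (pow_mem hg n)) 1
    (by rw [one_mul, hn])).symm

/-- A nonzero section of a quasi-coherent module over an affine open is nonzero at some weakly
associated point. -/
lemma exists_isWeakAssPoint_germ_ne_zero_of_isQCoh (F : X.Modules) (hF : Coh.IsQCoh F)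
    (V : X.affineOpens) {s : Γ(F, V.1)} (hs : s ≠ 0) :
    ∃ (y : X) (hy : y ∈ V.1), Curv2.IsWeakAssPoint F y ∧
      F.presheaf.germ V.1 y hy s ≠ 0 := by
  classical
  set J : Ideal Γ(X, V.1) := LinearMap.ker (LinearMap.toSpanSingleton Γ(X, V.1) Γ(F, V.1) s) with hJ
  have hmemJ : ∀ a, a ∈ J ↔ a • s = 0 := fun a => by simp [hJ, LinearMap.mem_ker]
  have hJne : J ≠ ⊤ := fun h => hs (by simpa using (hmemJ 1).mp (h ▸ Submodule.mem_top))
  obtain ⟨p, hp⟩ := Ideal.nonempty_minimalPrimes hJne
  haveI hpprime : p.IsPrime := hp.1.1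
  set y : X := V.2.fromSpec ⟨p, hpprime⟩ with hy_def
  have hy : y ∈ V.1 := by
    have : y ∈ Set.range V.2.fromSpec := ⟨_, rfl⟩
    rwa [IsAffineOpen.range_fromSpec] at this
  have hprime : (V.2.primeIdealOf ⟨y, hy⟩).asIdeal = p := by
    have : V.2.primeIdealOf ⟨y, hy⟩ = ⟨p, hpprime⟩ :=
      V.2.fromSpec.isOpenEmbedding.injective (V.2.fromSpec_primeIdealOf ⟨y, hy⟩)
    rw [this]
  haveI := V.2.isLocalization_stalk ⟨y, hy⟩
  letI := TopCat.Presheaf.algebra_section_stalk X.presheaf (⟨y, hy⟩ : V.1)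
  have hne : F.presheaf.germ V.1 y hy s ≠ 0 := by
    intro h0
    obtain ⟨W, hyW, i, j, hW⟩ := F.presheaf.germ_eq y hy hy _ _
      (h0.trans (map_zero (F.presheaf.germ V.1 y hy).hom).symm)
    obtain ⟨t, htW, hyt⟩ := V.2.exists_basicOpen_le (V := W) ⟨y, hyW⟩ hy
    obtain ⟨n, hn⟩ := exists_pow_smul_eq_zero F hF V.2 t s (by
      have := congrArg (F.presheaf.map (homOfLE htW).op) hW
      rw [map_zero, map_zero, ← ConcreteCategory.comp_apply, ← Functor.map_comp] at this
      exact this)
    have htp : t ∈ p := hpprime.mem_of_pow_mem n (hp.1.2 ((hmemJ _).mpr hn))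
    have hu := (X.mem_basicOpen t y hy).mp hyt
    rw [← hprime] at htp
    exact ((IsLocalization.AtPrime.isUnit_to_map_iff (X.presheaf.stalk y)
      (V.2.primeIdealOf ⟨y, hy⟩).asIdeal t).mp hu) htp
  refine ⟨y, hy, ⟨F.presheaf.germ V.1 y hy s, ?_⟩, hne⟩
  apply le_antisymm
  · refine IsLocalRing.le_maximalIdeal fun h => ?_
    rw [Ideal.radical_eq_top, Ideal.eq_top_iff_one, LinearMap.mem_ker,
      LinearMap.toSpanSingleton_apply, one_smul] at h
    exact hne h
  · intro a ha
    obtain ⟨⟨a₀, t⟩, rfl⟩ :=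
      IsLocalization.mk'_surjective (V.2.primeIdealOf ⟨y, hy⟩).asIdeal.primeCompl a
        |>.imp' (fun q => q) (fun q hq => hq)
    have ha₀ : a₀ ∈ p := by
      rw [IsLocalization.AtPrime.mk'_mem_maximal_iff (X.presheaf.stalk y)
        (V.2.primeIdealOf ⟨y, hy⟩).asIdeal a₀ t] at ha
      exact hprime ▸ ha
    obtain ⟨t', ht', n, hn⟩ : ∃ t' ∉ p, ∃ n : ℕ, (t' * a₀ ^ n) • s = 0 := by
      by_contra hc
      push_neg at hc
      obtain ⟨Q, hQp, hJQ, hQS⟩ := Ideal.exists_le_prime_disjoint J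
        (p.primeCompl ⊔ Submonoid.powers a₀) (by
          rw [Set.disjoint_left]
          intro z hzJ hzS
          obtain ⟨u, hu, v, ⟨n, rfl⟩, rfl⟩ := Submonoid.mem_sup.mp hzS
          exact hc u hu n ((hmemJ _).mp hzJ))
      have hQle : Q ≤ p := fun z hz => by
        by_contra hzp
        exact Set.disjoint_left.mp hQS hz (Submonoid.mem_sup_left hzp)
      exact Set.disjoint_left.mp hQS (hp.2 ⟨hQp, hJQ⟩ hQle ha₀)
        (Submonoid.mem_sup_right (Submonoid.mem_powers a₀))
    refine ⟨n, ?_⟩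
    rw [LinearMap.mem_ker, LinearMap.toSpanSingleton_apply]
    have hunit : IsUnit (X.presheaf.germ V.1 y hy t') :=
      IsLocalization.map_units (X.presheaf.stalk y)
        (⟨t', by rw [Ideal.mem_primeCompl_iff, hprime]; exact ht'⟩ :
          (V.2.primeIdealOf ⟨y, hy⟩).asIdeal.primeCompl)
    obtain ⟨w, hw⟩ := hunit
    have hzero : X.presheaf.germ V.1 y hy (t' * a₀ ^ n) •
        F.presheaf.germ V.1 y hy s = 0 := by
      refine ((PresheafOfModules.germ_smul (R := X.presheaf)
        (show PresheafOfModules (X.presheaf ⋙ forget₂ CommRingCat RingCat) from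
          F.val) y V.1 hy (t' * a₀ ^ n) s).symm).trans ?_
      exact (congrArg _ hn).trans (map_zero _)
    have hpow : IsLocalization.mk' (X.presheaf.stalk y) a₀ t ^ n =
        (IsLocalization.mk' (X.presheaf.stalk y) (1 : Γ(X, V.1)) t) ^ n * ↑w⁻¹ *
          X.presheaf.germ V.1 y hy (t' * a₀ ^ n) := by
      rw [map_mul, ← hw, map_pow, mul_assoc, ← mul_assoc (↑w⁻¹ : X.presheaf.stalk y),
        Units.inv_mul, one_mul, ← mul_pow]
      congr 1
      rw [mul_comm]
      change IsLocalization.mk' (X.presheaf.stalk y) a₀ t =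
        algebraMap Γ(X, V.1) (X.presheaf.stalk y) a₀ * IsLocalization.mk' (X.presheaf.stalk y) 1 t
      rw [IsLocalization.mul_mk'_eq_mk'_of_mul, mul_one]
    rw [hpow, mul_smul, hzero, smul_zero]

/-- The structure module is quasi-coherent. -/
lemma isQCoh_structureModule (X : Scheme.{u}) : Coh.IsQCoh (Coh.structureModule X) := by
  let e : SheafOfModules.free (R := X.ringCatSheaf) PUnit.{u + 1} ≅ Coh.structureModule X :=
    coproductUniqueIso _
  exact (SheafOfModules.presentationOfIsCokernelFree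
    (0 : SheafOfModules.free (R := X.ringCatSheaf) PEmpty.{u + 1} ⟶ SheafOfModules.free PUnit)
    e.hom zero_comp
    (CokernelCofork.IsColimit.ofπ _ _ (fun g _ => e.inv ≫ g) (fun g _ => e.hom_inv_id_assoc g)
      (fun g _ m hm => by rw [← hm, e.inv_hom_id_assoc]))).isQuasicoherent

/-- A nonzero section over an affine open is nonzero at some weakly associated point of the
structure sheaf. -/
lemma exists_isWeakAssPoint_germ_ne_zero (V : X.affineOpens) {s : Γ(X, V.1)} (hs : s ≠ 0) :
    ∃ (y : X) (hy : y ∈ V.1), Curv2.IsWeakAssPoint (Coh.structureModule X) y ∧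
      X.presheaf.germ V.1 y hy s ≠ 0 := by
  obtain ⟨y, hy, hweak, hne⟩ := exists_isWeakAssPoint_germ_ne_zero_of_isQCoh
    (Coh.structureModule X) (isQCoh_structureModule X) V (s := s) hs
  refine ⟨y, hy, hweak, fun h0 => hne ?_⟩
  obtain ⟨W, hyW, i, j, hW⟩ := X.presheaf.germ_eq y hy hy _ _
    (h0.trans (map_zero (X.presheaf.germ V.1 y hy).hom).symm)
  rw [← TopCat.Presheaf.germ_res_apply (Coh.structureModule X).presheaf i y hyW s]
  have h2 : (Coh.structureModule X).presheaf.map i.op s = 0 := hW.trans (map_zero _)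
  rw [h2, map_zero]

end H29Blow
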