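import Groth.Agent.H29Fitt.FreeLocal
import Groth.Prelude.Def_ClSub2
import Groth.Prelude.Def_BlowUp2
import Groth.Prelude.Def_Omega3
import Groth.Prelude.Def_Omega4
import Groth.Prelude.Def_PicLoc

/-!
# Sections of the ideal module; invertible iff effective Cartier
-/

set_option autoImplicit false

universe u

open CategoryTheory Limits AlgebraicGeometry TopologicalSpace Opposite

namespace Groth.Agent.H29Blow

variable {X : Scheme.{u}} (I : X.IdealSheafData)

theorem idealSect_injective (U : X.Opens) : Function.Injective (OmegaSh.idealSect I U) :=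
  OmegaSh.idealModι_app_injective (W := U) I

theorem idealSect_smul (U : X.Opens) (r : Γ(X, U)) (m : Γ(ClSub.idealMod I, U)) :
    OmegaSh.idealSect I U (r • m) = r * OmegaSh.idealSect I U m :=
  (ClSub.idealModι I).app_smul r m

theorem idealSect_res {U V : X.Opens} (h : V ≤ U) (m : Γ(ClSub.idealMod I, U)) :
    OmegaSh.idealSect I V ((ClSub.idealMod I).presheaf.map (homOfLE h).op m) =
      X.presheaf.map (homOfLE h).op (OmegaSh.idealSect I U m) :=
  H11Tilde.app_map_apply (ClSub.idealModι I) h m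

/-- Left exactness of sections for kernels. -/
theorem exists_kernelι_app_eq {M N : X.Modules} (φ : M ⟶ N) (U : X.Opens) (z : Γ(M, U))
    (hz : φ.app U z = 0) : ∃ y, (kernel.ι φ).app U y = z := by
  let π := cokernel.π (kernel.ι φ)
  have hz' : π.app U z = 0 := by
    refine H10Coh.injective_app_of_mono' (Abelian.factorThruCoimage φ) U ?_
    refine (congr($(Abelian.coimage.fac φ).app U z)).trans (hz.trans ?_)
    exact (map_zero _).symm
  have hS : (ShortComplex.mk (kernel.ι φ) π (cokernel.condition _)).ShortExact :=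
    { exact := ShortComplex.exact_cokernel _ }
  exact H10Coh.exists_app_eq_of_exact hS U z hz'

/-- Over an affine open, sections of the ideal module are the ideal. -/
theorem mem_ideal_iff_exists_idealSect {U : X.Opens} (hU : IsAffineOpen U) (a : Γ(X, U)) :
    a ∈ I.ideal ⟨U, hU⟩ ↔ ∃ m, OmegaSh.idealSect I U m = a := by
  rw [← I.ker_subschemeι_app ⟨U, hU⟩, RingHom.mem_ker]
  refine ⟨fun h => exists_kernelι_app_eq (ClSub.toSubscheme I) U a h, fun ⟨m, hm⟩ => ?_⟩
  rw [← hm]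
  show (ClSub.idealModι I ≫ ClSub.toSubscheme I).app U m = 0
  rw [show ClSub.idealModι I ≫ ClSub.toSubscheme I = 0 from kernel.condition _]; rfl

/-- A free generator on an affine open: the ideal is generated by one nonzerodivisor. -/
theorem exists_gen_of_invertible (h : PicF.IsInvertible (ClSub.idealMod I)) :
    BlowUp.IsEffCartierIdeal I := by
  intro x
  obtain ⟨O, hxO, ⟨φ⟩⟩ := h x
  obtain ⟨_, ⟨U, hU : IsAffineOpen U, rfl⟩, hxU, hle : U ≤ O⟩ :=
    X.isBasis_affineOpens.exists_subset_of_mem_open hxO O.isOpen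
  have hpre : O.ι ''ᵁ (O.ι ⁻¹ᵁ U) = U := by
    rw [Scheme.Hom.image_preimage_eq_opensRange_inf, Scheme.Opens.opensRange_ι]
    exact inf_eq_right.2 hle
  suffices key : ∀ (W : X.Opens) (hW : IsAffineOpen W), O.ι ''ᵁ (O.ι ⁻¹ᵁ U) = W →
      ∃ f : Γ(X, W), f ∈ nonZeroDivisors Γ(X, W) ∧ I.ideal ⟨W, hW⟩ = Ideal.span {f} from
    ⟨⟨U, hU⟩, hxU, key U hU hpre⟩
  intro W hW hWeq
  subst hWeq
  let e : Γ(ClSub.idealMod I, O.ι ''ᵁ (O.ι ⁻¹ᵁ U)) :=
    φ.inv.app (O.ι ⁻¹ᵁ U) (1 : Γ(↑O, O.ι ⁻¹ᵁ U))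
  have hb : Function.Bijective fun r : Γ(X, O.ι ''ᵁ (O.ι ⁻¹ᵁ U)) => r • e := by
    refine (Function.Bijective.of_comp_iff _
      (ConcreteCategory.bijective_of_isIso (O.ι.appIso (O.ι ⁻¹ᵁ U)).inv)).mp ?_
    have h3 : ∀ r : Γ(↑O, O.ι ⁻¹ᵁ U),
        (O.ι.appIso (O.ι ⁻¹ᵁ U)).inv r • e = φ.inv.app (O.ι ⁻¹ᵁ U) r := by
      intro r
      refine Eq.trans ?_ ((Scheme.Modules.Hom.app_smul φ.inv (U := O.ι ⁻¹ᵁ U) r
        (1 : Γ(↑O, O.ι ⁻¹ᵁ U))).symm.trans (congrArg (φ.inv.app (O.ι ⁻¹ᵁ U)) (mul_one r)))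
      rfl
    have hφ := ConcreteCategory.bijective_of_isIso (φ.inv.app (O.ι ⁻¹ᵁ U))
    exact ⟨fun a b hab => hφ.1 ((h3 a).symm.trans (hab.trans (h3 b))),
      fun m => (hφ.2 m).imp fun a ha => (h3 a).trans ha⟩
  refine ⟨OmegaSh.idealSect I _ e, ?_, ?_⟩
  · rw [mem_nonZeroDivisors_iff_right]
    intro r hr
    refine hb.1 (idealSect_injective I _ ?_)
    simp only [zero_smul, map_zero, idealSect_smul]
    exact hr
  · refine le_antisymm (fun a ha => ?_) ?_
    · obtain ⟨m, rfl⟩ := (mem_ideal_iff_exists_idealSect I hW a).1 ha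
      obtain ⟨r, rfl⟩ := hb.2 m
      rw [idealSect_smul]
      exact Ideal.mul_mem_left _ r (Ideal.mem_span_singleton_self _)
    · rw [Ideal.span_le, Set.singleton_subset_iff]
      exact (mem_ideal_iff_exists_idealSect I hW _).2 ⟨e, rfl⟩

/-- An effective Cartier ideal is an invertible module. -/
theorem isInvertible_of_isEffCartierIdeal (h : BlowUp.IsEffCartierIdeal I) :
    PicF.IsInvertible (ClSub.idealMod I) := by
  intro x
  obtain ⟨⟨U, hU⟩, hxU, f, hf, hI⟩ := h x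
  obtain ⟨g, hg⟩ := (mem_ideal_iff_exists_idealSect I hU f).1 (hI ▸ Ideal.mem_span_singleton_self f)
  let s : Γ((ClSub.idealMod I).restrict U.ι, ⊤) :=
    ((ClSub.idealMod I).restrictAppIso U.ι ⊤).inv
      ((ClSub.idealMod I).presheaf.map (homOfLE (U.ι_image_le ⊤)).op g)
  let φ := H29Fitt.homSec ((ClSub.idealMod I).restrict U.ι) s
  have happ : ∀ (W : U.toScheme.Opens) (r : Γ(U.toScheme, W)),
      OmegaSh.idealSect I (U.ι ''ᵁ W) (((ClSub.idealMod I).restrictAppIso U.ι W).hom (φ.app W r)) =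
        (U.ι.appIso W).inv r * X.presheaf.map (homOfLE (U.ι_image_le W)).op f := by
    intro W r
    refine (idealSect_smul I _ ((U.ι.appIso W).inv r) _).trans ?_
    congr 1
    rw [← hg, ← idealSect_res]
    refine congrArg (OmegaSh.idealSect I (U.ι ''ᵁ W)) ?_
    refine Eq.trans ?_ (H10Coh.mres_mres (ClSub.idealMod I) (U.ι_image_le ⊤)
      (Scheme.Hom.image_mono U.ι (le_top : W ≤ ⊤)) g)
    rfl
  have hloc : ∀ (W : U.toScheme.Opens) (y : U.toScheme), y ∈ W →
      ∃ (t : Γ(X, U)) (V : U.toScheme.Opens), V ≤ W ∧ y ∈ V ∧ U.ι ''ᵁ V = X.basicOpen t := by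
    intro W y hy
    have hy' : U.ι y ∈ U.ι ''ᵁ W := ⟨y, hy, rfl⟩
    obtain ⟨t, hle, hyt⟩ := hU.exists_basicOpen_le ⟨_, hy'⟩ (show U.ι y ∈ U from y.2)
    refine ⟨t, U.ι ⁻¹ᵁ X.basicOpen t, ?_, hyt, ?_⟩
    · intro z hz
      obtain ⟨z', hz', he⟩ := hle hz
      exact (U.ι.isOpenEmbedding.injective he) ▸ hz'
    · rw [Scheme.Hom.image_preimage_eq_opensRange_inf, Scheme.Opens.opensRange_ι]
      exact inf_eq_right.2 (X.basicOpen_le t)
  have hD : ∀ (t : Γ(X, U)) (D : X.Opens) (hle : D ≤ U), D = X.basicOpen t →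
      X.presheaf.map (homOfLE hle).op f ∈ nonZeroDivisors Γ(X, D) ∧
      ∀ m : Γ(ClSub.idealMod I, D), ∃ r : Γ(X, D),
        OmegaSh.idealSect I D m = r * X.presheaf.map (homOfLE hle).op f := by
    rintro t _ hle rfl
    haveI := hU.isLocalization_basicOpen t
    refine ⟨IsLocalization.map_nonZeroDivisors_le (Submonoid.powers t) _ (Submonoid.mem_map_of_mem _ hf),
      fun m => ?_⟩
    have hm := (mem_ideal_iff_exists_idealSect I (hU.basicOpen t) _).2 ⟨m, rfl⟩
    rw [← I.map_ideal (U := ⟨X.basicOpen t, hU.basicOpen t⟩) (V := ⟨U, hU⟩) (X.basicOpen_le t), hI,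
      Ideal.map_span, Set.image_singleton, Ideal.mem_span_singleton'] at hm
    obtain ⟨r, hr⟩ := hm
    exact ⟨r, hr.symm⟩
  have hepi : Epi φ := by
    refine H11Tilde.epi_of_locally_surjective _ fun W t y hy => ?_
    obtain ⟨a, V, hVW, hyV, hV⟩ := hloc W y hy
    obtain ⟨r, hr⟩ := (hD a _ (U.ι_image_le V) hV).2
      (((ClSub.idealMod I).restrictAppIso U.ι V).hom
        (((ClSub.idealMod I).restrict U.ι).presheaf.map (homOfLE hVW).op t))
    refine ⟨V, hVW, hyV, (U.ι.appIso V).hom r, ?_⟩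
    refine (ConcreteCategory.bijective_of_isIso ((ClSub.idealMod I).restrictAppIso U.ι V).hom).1
      (idealSect_injective I _ ?_)
    rw [happ, hr, ← ConcreteCategory.comp_apply, Iso.hom_inv_id]
    rfl
  have hmono : Mono φ := by
    refine H11Tilde.mono_of_injective _ fun W r hr y hy => ?_
    obtain ⟨a, V, hVW, hyV, hV⟩ := hloc W y hy
    refine ⟨V, hVW, hyV, ?_⟩
    have h0 : φ.app V ((Coh.structureModule U.toScheme).presheaf.map (homOfLE hVW).op r) = 0 := by
      rw [H11Tilde.app_map_apply, hr, map_zero]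
    have h1 := happ V ((Coh.structureModule U.toScheme).presheaf.map (homOfLE hVW).op r)
    rw [h0, map_zero, map_zero] at h1
    have h2 := (mem_nonZeroDivisors_iff_right.1 (hD a _ (U.ι_image_le V) hV).1) _ h1.symm
    exact (ConcreteCategory.bijective_of_isIso (U.ι.appIso V).inv).1
      (h2.trans (map_zero (U.ι.appIso V).inv.hom).symm)
  haveI := isIso_of_mono_of_epi φ
  exact ⟨U, hxU, ⟨(asIso φ).symm⟩⟩

end Groth.Agent.H29Blow
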