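import Groth.Agent.H29Blow.WeakAssAffine

/-!
Germs of a quasi-coherent module at a point of an affine open come from sections over the open.
-/

universe u

open CategoryTheory Limits AlgebraicGeometry TopologicalSpace Opposite

namespace H29Blow

variable {X : Scheme.{u}}

theorem exists_pow_smul_eq_res_Spec {R : CommRingCat.{u}} (M : (Spec R).Modules)
    [M.IsQuasicoherent] (t : R) (D : (Spec R).Opens) (hD : D = PrimeSpectrum.basicOpen t)
    (s : Γ(M, D)) :
    ∃ (n : ℕ) (s' : Γ(M, ⊤)),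
      M.presheaf.map (homOfLE (le_top : D ≤ ⊤)).op s' =
        ((Spec R).presheaf.map (homOfLE (le_top : D ≤ ⊤)).op
          ((Scheme.ΓSpecIso R).inv (t ^ n))) • s := by
  subst hD
  have hloc := (isIso_fromTildeΓ_iff_isLocalizing M).mp
    ((isQuasicoherent_iff_isIso_fromTildeΓ M).mp inferInstance) t
  let g := ((modulesSpecToSheaf.obj M).obj.map (PrimeSpectrum.basicOpen t).leTop.op).hom
  have hg : IsLocalizedModule (Submonoid.powers t) g := hloc
  obtain ⟨⟨s', ⟨_, n, rfl⟩⟩, h⟩ := IsLocalizedModule.surj (Submonoid.powers t) g s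
  refine ⟨n, s', ?_⟩
  have h1 : ((t ^ n : R) • s : Γ(M, PrimeSpectrum.basicOpen t)) = g s' := h
  rw [Scheme.Modules.smul_Spec_def] at h1
  exact h1.symm

theorem exists_pow_smul_eq_res (F : X.Modules) (hF : Coh.IsQCoh F) {U : X.Opens}
    (hU : IsAffineOpen U) (t : Γ(X, U)) (s : Γ(F, X.basicOpen t)) :
    ∃ (n : ℕ) (s' : Γ(F, U)), F.presheaf.map (homOfLE (X.basicOpen_le t)).op s' =
      X.presheaf.map (homOfLE (X.basicOpen_le t)).op (t ^ n) • s := by
  haveI : F.IsQuasicoherent := hF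
  have htop : hU.fromSpec ''ᵁ ⊤ = U := by
    rw [Scheme.Hom.image_top_eq_opensRange, hU.opensRange_fromSpec]
  let D : (Spec Γ(X, U)).Opens := PrimeSpectrum.basicOpen t
  have hD : hU.fromSpec ''ᵁ D = X.basicOpen t := hU.fromSpec_image_basicOpen t
  obtain ⟨n, s', h⟩ := exists_pow_smul_eq_res_Spec (F.restrict hU.fromSpec) t D rfl
    ((F.restrictAppIso hU.fromSpec D).inv (F.presheaf.map (homOfLE hD.le).op s))
  refine ⟨n, F.presheaf.map (homOfLE htop.ge).op ((F.restrictAppIso hU.fromSpec ⊤).hom s'), ?_⟩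
  have h2 : F.presheaf.map (homOfLE (Scheme.Hom.image_mono hU.fromSpec (le_top : D ≤ ⊤))).op
        ((F.restrictAppIso hU.fromSpec ⊤).hom s') =
      (hU.fromSpec.appIso D).inv ((Spec Γ(X, U)).presheaf.map (homOfLE (le_top : D ≤ ⊤)).op
        ((Scheme.ΓSpecIso Γ(X, U)).inv (t ^ n))) • F.presheaf.map (homOfLE hD.le).op s := h
  have hr : (hU.fromSpec.appIso D).inv ((Spec Γ(X, U)).presheaf.map (homOfLE (le_top : D ≤ ⊤)).op
      ((Scheme.ΓSpecIso Γ(X, U)).inv (t ^ n))) =
      X.presheaf.map (homOfLE (hD.le.trans (X.basicOpen_le t))).op (t ^ n) := by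
    refine Eq.trans ?_ congr($((X.presheaf.map_comp (homOfLE htop.le).op
      (homOfLE (Scheme.Hom.image_mono hU.fromSpec (le_top : D ≤ ⊤))).op).symm) (t ^ n))
    refine Eq.trans ?_ (congrArg (X.presheaf.map
      (homOfLE (Scheme.Hom.image_mono hU.fromSpec (le_top : D ≤ ⊤))).op).hom
      congr($(res_eq_appIso_inv hU htop.le) (t ^ n)))
    exact congr($(hU.fromSpec.appIso_inv_naturality (homOfLE (le_top : D ≤ ⊤)).op)
      ((Scheme.ΓSpecIso Γ(X, U)).inv (t ^ n)))
  rw [hr] at h2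
  have h3 := congrArg (F.presheaf.map (homOfLE hD.ge).op) h2
  rw [Scheme.Modules.map_smul] at h3
  refine Eq.trans ?_ (h3.trans ?_)
  · refine Eq.trans (ConcreteCategory.comp_apply _ _ _).symm ?_
    refine Eq.trans ?_ (ConcreteCategory.comp_apply _ _ _)
    rw [← F.presheaf.map_comp, ← F.presheaf.map_comp]
    exact congr($(congrArg F.presheaf.map (Subsingleton.elim _ _)) _)
  · congr 1
    · exact congr($((X.presheaf.map_comp (homOfLE (hD.le.trans (X.basicOpen_le t))).op
        (homOfLE hD.ge).op).symm) (t ^ n))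
    · refine (ConcreteCategory.comp_apply _ _ s).symm.trans ?_
      rw [← F.presheaf.map_comp]
      exact congr($((congrArg F.presheaf.map (Subsingleton.elim _ (𝟙 _))).trans (F.presheaf.map_id _)) s)

/-- A germ, times a unit germ, is the germ of a section over the affine open. -/
theorem exists_germ_eq_smul (F : X.Modules) (hF : Coh.IsQCoh F) {V : X.Opens}
    (hV : IsAffineOpen V) (y : V) (m : F.presheaf.stalk y.1) :
    ∃ (t : Γ(F, V)) (u : (X.presheaf.stalk y.1)ˣ), F.presheaf.germ V y.1 y.2 t = (u : X.presheaf.stalk y.1) • m := by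
  obtain ⟨W, hyW, s₀, rfl⟩ := F.presheaf.germ_exist m
  obtain ⟨g, hgW, hyg⟩ := hV.exists_basicOpen_le (V := W) ⟨y.1, hyW⟩ y.2
  obtain ⟨n, s', h⟩ := exists_pow_smul_eq_res F hF hV g (F.presheaf.map (homOfLE hgW).op s₀)
  refine ⟨s', (((X.mem_basicOpen g y.1 y.2).mp hyg).pow n).unit, ?_⟩
  have h1 := congrArg (F.presheaf.germ (X.basicOpen g) y.1 hyg) h
  rw [F.presheaf.germ_res_apply] at h1
  refine h1.trans ?_
  refine (PresheafOfModules.germ_smul (R := X.presheaf)
    (show PresheafOfModules (X.presheaf ⋙ forget₂ CommRingCat RingCat) from F.val) y.1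
    (X.basicOpen g) hyg _ _).trans ?_
  rw [IsUnit.unit_spec, ← map_pow]
  congr 1
  · exact X.presheaf.germ_res_apply _ _ _ _
  · exact F.presheaf.germ_res_apply _ _ _ _

end H29Blow
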