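import Mathlib
import Groth.Prelude.Def_BlowUp2

/-!
Pullback of ideal sheaves on affine opens, effective Cartier ideals and first properties of
blow-ups (in the sense of `BlowUp.IsBlowUp`).
-/

universe u

open CategoryTheory Limits AlgebraicGeometry TopologicalSpace

namespace H29Blow

variable {X Y : Scheme.{u}}

lemma ideal_comap_top [IsAffine X] [IsAffine Y] (J : Y.IdealSheafData) (g : X ⟶ Y) :
    (J.comap g).ideal ⟨⊤, isAffineOpen_top X⟩ =
      (J.ideal ⟨⊤, isAffineOpen_top Y⟩).map g.appTop.hom := by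
  apply le_antisymm
  · set M := (J.ideal ⟨⊤, isAffineOpen_top Y⟩).map g.appTop.hom with hM
    have h1 : (Scheme.IdealSheafData.ofIdealTop M).ideal ⟨⊤, isAffineOpen_top X⟩ = M := by simp
    have h2 : J.comap g ≤ Scheme.IdealSheafData.ofIdealTop M := by
      rw [← Scheme.IdealSheafData.le_map_iff_comap_le]
      refine Scheme.IdealSheafData.le_of_isAffine ?_
      rw [Scheme.IdealSheafData.ideal_map_of_isAffineHom]
      change _ ≤ ((Scheme.IdealSheafData.ofIdealTop M).ideal ⟨⊤, isAffineOpen_top X⟩).comap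
        g.appTop.hom
      rw [h1]
      exact Ideal.le_comap_map
    exact (h2 _).trans h1.le
  · rw [Ideal.map_le_iff_le_comap]
    have := (J.le_map_comap g) ⟨⊤, isAffineOpen_top Y⟩
    rw [Scheme.IdealSheafData.ideal_map_of_isAffineHom] at this
    exact this

lemma ideal_comap_ι (I : X.IdealSheafData) (V : X.affineOpens) :
    haveI : IsAffine (V.1 : Scheme.{u}) := V.2
    (I.comap V.1.ι).ideal ⟨⊤, isAffineOpen_top _⟩ = (I.ideal V).map V.1.topIso.inv.hom := by
  haveI : IsAffine (V.1 : Scheme.{u}) := V.2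
  rw [Scheme.IdealSheafData.ideal_comap_of_isOpenImmersion]
  rw [← I.map_ideal' (V := V) (eqToHom (congrArg Opposite.op V.1.ι_image_top.symm))]
  simp [Scheme.Opens.ι_appIso]
  rfl

/-- The inverse image ideal on an affine open is generated by the image of the ideal. -/
lemma ideal_comap (I : Y.IdealSheafData) (f : X ⟶ Y) (U : Y.affineOpens) (V : X.affineOpens)
    (e : V.1 ≤ f ⁻¹ᵁ U.1) :
    (I.comap f).ideal V = (I.ideal U).map (f.appLE U.1 V.1 e).hom := by
  haveI : IsAffine (V.1 : Scheme.{u}) := V.2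
  haveI : IsAffine (U.1 : Scheme.{u}) := U.2
  have h1 := ideal_comap_ι (I.comap f) V
  rw [← Scheme.IdealSheafData.comap_comp, ← Scheme.Hom.resLE_comp_ι f e,
    Scheme.IdealSheafData.comap_comp, ideal_comap_top, ideal_comap_ι, Ideal.map_map,
    ← CommRingCat.hom_comp] at h1
  have h2 : U.1.topIso.inv ≫ (f.resLE U.1 V.1 e).appTop = f.appLE U.1 V.1 e ≫ V.1.topIso.inv := by
    rw [Scheme.Hom.appTop, Scheme.Hom.resLE_app_top, Iso.inv_hom_id_assoc]
  rw [h2, CommRingCat.hom_comp, ← Ideal.map_map] at h1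
  apply_fun Ideal.map V.1.topIso.hom.hom at h1
  simpa only [Ideal.map_map, ← CommRingCat.hom_comp, Category.assoc, Iso.inv_hom_id,
    Category.comp_id, CommRingCat.hom_id, Ideal.map_id] using h1.symm

/-- Two ideal sheaves agreeing near every point are equal. -/
lemma ext_of_forall_exists {I J : X.IdealSheafData}
    (h : ∀ x : X, ∃ V : X.affineOpens, x ∈ V.1 ∧ I.ideal V = J.ideal V) : I = J := by
  choose V hx hV using h
  exact Scheme.IdealSheafData.ext_of_iSup_eq_top V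
    (top_le_iff.mp fun x _ => Opens.mem_iSup.mpr ⟨x, hx x⟩) hV

lemma exists_affine_le (f : X ⟶ Y) (x : X) :
    ∃ (U : Y.affineOpens) (V : X.affineOpens), x ∈ V.1 ∧ V.1 ≤ f ⁻¹ᵁ U.1 := by
  obtain ⟨U, hU, hxU, -⟩ := exists_isAffineOpen_mem_and_subset (Opens.mem_top (f x))
  obtain ⟨V, hV, hxV, hVU⟩ := exists_isAffineOpen_mem_and_subset (U := f ⁻¹ᵁ U) (x := x) hxU
  exact ⟨⟨U, hU⟩, ⟨V, hV⟩, hxV, hVU⟩

lemma comap_mul (I J : Y.IdealSheafData) (f : X ⟶ Y) :
    (I * J).comap f = I.comap f * J.comap f := by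
  refine ext_of_forall_exists fun x => ?_
  obtain ⟨U, V, hx, e⟩ := exists_affine_le f x
  refine ⟨V, hx, ?_⟩
  rw [Scheme.IdealSheafData.ideal_mul]
  simp only [Pi.mul_apply, ideal_comap _ f U V e]
  rw [Scheme.IdealSheafData.ideal_mul]
  simp [Ideal.map_mul]

/-- If `V.ι ≫ f` is flat then so is the ring map on sections over `V`. -/
lemma flat_appLE (f : X ⟶ Y) (U : Y.affineOpens) (V : X.affineOpens) (e : V.1 ≤ f ⁻¹ᵁ U.1)
    [Flat (V.1.ι ≫ f)] : (f.appLE U.1 V.1 e).hom.Flat := by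
  haveI : IsAffine (V.1 : Scheme.{u}) := V.2
  have h := HasRingHomProperty.appLE @Flat (V.1.ι ≫ f) inferInstance U ⟨⊤, isAffineOpen_top _⟩
    (fun y _ => e y.2)
  have h2 : (V.1.ι ≫ f).appLE U.1 ⊤ (fun y _ => e y.2) = f.appLE U.1 V.1 e ≫ V.1.topIso.inv := by
    rw [← Scheme.Hom.appLE_comp_appLE V.1.ι f U.1 V.1 ⊤ e (fun y _ => y.2)]
    congr 1
    simp [Scheme.Hom.appLE, ← Functor.map_comp]
    exact (X.presheaf.map_comp _ _).symm.trans (congrArg _ (Subsingleton.elim _ _))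
  rw [h2, CommRingCat.hom_comp,
    RingHom.Flat.respectsIso.cancel_right_isIso] at h
  exact h

lemma flat_appLE' (f : X ⟶ Y) [Flat f] (U : Y.affineOpens) (V : X.affineOpens)
    (e : V.1 ≤ f ⁻¹ᵁ U.1) : (f.appLE U.1 V.1 e).hom.Flat :=
  HasRingHomProperty.appLE @Flat f inferInstance U V e

lemma mem_nonZeroDivisors_map_of_flat {A B : Type u} [CommRing A] [CommRing B] {φ : A →+* B}
    (hφ : φ.Flat) {a : A} (ha : a ∈ nonZeroDivisors A) : φ a ∈ nonZeroDivisors B := by
  letI := φ.toAlgebra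
  haveI : Module.Flat A B := hφ
  have : IsSMulRegular A a := (isRegular_iff_mem_nonZeroDivisors.mpr ha).left
  have h : IsSMulRegular B (algebraMap A B a) := IsSMulRegular.of_flat this
  exact isRegular_iff_mem_nonZeroDivisors.mp ⟨h, fun x y hxy => h (by simpa [mul_comm] using! hxy)⟩

lemma flat_res (V W : X.affineOpens) (h : W.1 ≤ V.1) :
    (X.presheaf.map (homOfLE h).op).hom.Flat := by
  have := flat_appLE' (𝟙 X) V W h
  simpa [Scheme.Hom.appLE] using! this

lemma res_mem_nonZeroDivisors {V W : X.affineOpens} (h : W.1 ≤ V.1) {f : Γ(X, V.1)}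
    (hf : f ∈ nonZeroDivisors Γ(X, V.1)) :
    (X.presheaf.map (homOfLE h).op).hom f ∈ nonZeroDivisors Γ(X, W.1) :=
  mem_nonZeroDivisors_map_of_flat (flat_res V W h) hf

/-- A principal ideal stays principal on smaller affine opens. -/
lemma ideal_eq_span_res {I : X.IdealSheafData} {V W : X.affineOpens} (h : W.1 ≤ V.1)
    {f : Γ(X, V.1)} (hI : I.ideal V = Ideal.span {f}) :
    I.ideal W = Ideal.span {(X.presheaf.map (homOfLE h).op).hom f} := by
  rw [← I.map_ideal (U := W) (V := V) h, hI, Ideal.map_span, Set.image_singleton]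
  rfl

/-- An effective Cartier ideal is principal regular on small affine opens. -/
lemma exists_gen {I : X.IdealSheafData} (hI : BlowUp.IsEffCartierIdeal I) {x : X} {W : X.Opens}
    (hx : x ∈ W) :
    ∃ V : X.affineOpens, x ∈ V.1 ∧ V.1 ≤ W ∧
      ∃ f : Γ(X, V.1), f ∈ nonZeroDivisors Γ(X, V.1) ∧ I.ideal V = Ideal.span {f} := by
  obtain ⟨U, hxU, f, hf, hfU⟩ := hI x
  obtain ⟨V, hV, hxV, hVU⟩ := exists_isAffineOpen_mem_and_subset (U := U.1 ⊓ W) ⟨hxU, hx⟩
  have hle : V ≤ U.1 := fun y hy => (hVU hy).1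
  exact ⟨⟨V, hV⟩, hxV, fun y hy => (hVU hy).2, _, res_mem_nonZeroDivisors (W := ⟨V, hV⟩) hle hf,
    ideal_eq_span_res (W := ⟨V, hV⟩) hle hfU⟩

lemma isEffCartierIdeal_top : BlowUp.IsEffCartierIdeal (⊤ : X.IdealSheafData) := fun x => by
  obtain ⟨V, hV, hxV, -⟩ := exists_isAffineOpen_mem_and_subset (Opens.mem_top x)
  exact ⟨⟨V, hV⟩, hxV, 1, one_mem _, by simp⟩

lemma isEffCartierIdeal_mul {I J : X.IdealSheafData} (hI : BlowUp.IsEffCartierIdeal I)
    (hJ : BlowUp.IsEffCartierIdeal J) : BlowUp.IsEffCartierIdeal (I * J) := fun x => by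
  obtain ⟨V, hxV, -, f, hf, hfV⟩ := exists_gen hI (Opens.mem_top x)
  obtain ⟨W, hxW, hWV, g, hg, hgW⟩ := exists_gen hJ hxV
  refine ⟨W, hxW, _, mul_mem (res_mem_nonZeroDivisors hWV hf) hg, ?_⟩
  rw [Scheme.IdealSheafData.ideal_mul, Pi.mul_apply, ideal_eq_span_res hWV hfV, hgW,
    Ideal.span_singleton_mul_span_singleton]

lemma isEffCartierIdeal_comap_of_flat {I : Y.IdealSheafData} (hI : BlowUp.IsEffCartierIdeal I)
    (f : X ⟶ Y) [Flat f] : BlowUp.IsEffCartierIdeal (I.comap f) := fun x => by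
  obtain ⟨U, hxU, a, ha, haU⟩ := hI (f x)
  obtain ⟨V, hV, hxV, hVU⟩ := exists_isAffineOpen_mem_and_subset (U := f ⁻¹ᵁ U.1) (x := x) hxU
  refine ⟨⟨V, hV⟩, hxV, _,
    mem_nonZeroDivisors_map_of_flat (flat_appLE' f U ⟨V, hV⟩ hVU) ha, ?_⟩
  rw [ideal_comap I f U ⟨V, hV⟩ hVU, haU, Ideal.map_span, Set.image_singleton]

/-- Both factors of an effective Cartier ideal are effective Cartier. -/
lemma isEffCartierIdeal_left_of_mul {I J : X.IdealSheafData}
    (h : BlowUp.IsEffCartierIdeal (I * J)) : BlowUp.IsEffCartierIdeal I := fun x => by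
  obtain ⟨U, hxU, f, hf, hfU⟩ := h x
  rw [Scheme.IdealSheafData.ideal_mul, Pi.mul_apply] at hfU
  have key : (Ideal.span {c : Γ(X, U.1) | ∃ a ∈ I.ideal U, ∃ b ∈ J.ideal U, a * b = c * f}) = ⊤ := by
    rw [Ideal.eq_top_iff_one]
    have hmem : ∀ y ∈ I.ideal U * J.ideal U, ∃ c ∈ Ideal.span
        {c : Γ(X, U.1) | ∃ a ∈ I.ideal U, ∃ b ∈ J.ideal U, a * b = c * f}, y = c * f := by
      intro y hy
      refine Submodule.mul_induction_on hy (fun a ha b hb => ?_) (fun p q hp hq => ?_)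
      · have : a * b ∈ Ideal.span {f} := hfU ▸ Ideal.mul_mem_mul ha hb
        obtain ⟨c, hc⟩ := Ideal.mem_span_singleton'.mp this
        exact ⟨c, Ideal.subset_span ⟨a, ha, b, hb, hc.symm⟩, hc.symm⟩
      · obtain ⟨c, hc, rfl⟩ := hp
        obtain ⟨d, hd, rfl⟩ := hq
        exact ⟨c + d, add_mem hc hd, (add_mul c d f).symm⟩
    obtain ⟨c, hc, hcf⟩ := hmem f (hfU ▸ Ideal.mem_span_singleton_self f)
    have : c = 1 := by
      have h' : f * (c - 1) = 0 := by rw [mul_sub, mul_one, mul_comm, ← hcf, sub_self]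
      exact sub_eq_zero.mp ((mem_nonZeroDivisors_iff.mp hf).1 _ h')
    exact this ▸ hc
  obtain ⟨⟨c, a, ha, b, hb, hab⟩, hxc⟩ := Opens.mem_iSup.mp
    (((U.2.self_le_iSup_basicOpen_iff
      (s := {c : Γ(X, U.1) | ∃ a ∈ I.ideal U, ∃ b ∈ J.ideal U, a * b = c * f})).mpr key) hxU)
  set W : X.affineOpens := X.affineBasicOpen c
  have hWU : W.1 ≤ U.1 := X.basicOpen_le c
  set ρ : Γ(X, U.1) →+* Γ(X, W.1) := (X.presheaf.map (homOfLE hWU).op).hom
  have hc : IsUnit (ρ c) := RingedSpace.isUnit_res_basicOpen _ c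
  have hfW : (I * J).ideal W = Ideal.span {ρ f} :=
    ideal_eq_span_res hWU (by rw [Scheme.IdealSheafData.ideal_mul, Pi.mul_apply, hfU])
  rw [Scheme.IdealSheafData.ideal_mul, Pi.mul_apply] at hfW
  have hab' : ρ a * ρ b ∈ nonZeroDivisors Γ(X, W.1) := by
    rw [← map_mul, hab, map_mul]
    exact mul_mem hc.mem_nonZeroDivisors (res_mem_nonZeroDivisors hWU hf)
  obtain ⟨hA, hB⟩ := mul_mem_nonZeroDivisors.mp hab'
  refine ⟨W, hxc, ρ a, hA, le_antisymm (fun y hy => ?_) ?_⟩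
  · have hbW : ρ b ∈ J.ideal W := by
      rw [← J.map_ideal (U := W) (V := U) hWU]; exact Ideal.mem_map_of_mem _ hb
    have : y * ρ b ∈ Ideal.span {ρ f} := hfW ▸ Ideal.mul_mem_mul hy hbW
    obtain ⟨r, hr⟩ := Ideal.mem_span_singleton'.mp this
    obtain ⟨v, hv⟩ := hc
    have h3 : ρ f = (↑v⁻¹ : Γ(X, W.1)) * (ρ a * ρ b) := by
      rw [← map_mul, hab, map_mul, ← hv, ← mul_assoc, Units.inv_mul, one_mul]
    rw [Ideal.mem_span_singleton']
    refine ⟨r * ↑v⁻¹, mul_cancel_right_mem_nonZeroDivisors hB |>.mp ?_⟩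
    rw [← hr, h3]; ring
  · rw [Ideal.span_le, Set.singleton_subset_iff, ← I.map_ideal (U := W) (V := U) hWU]
    exact Ideal.mem_map_of_mem _ ha

lemma isEffCartierIdeal_right_of_mul {I J : X.IdealSheafData}
    (h : BlowUp.IsEffCartierIdeal (I * J)) : BlowUp.IsEffCartierIdeal J :=
  isEffCartierIdeal_left_of_mul (mul_comm I J ▸ h)

/-- Sections vanishing off the support of an effective Cartier ideal vanish. -/
lemma eq_zero_of_res_basicOpen_eq_zero {U : X.affineOpens} {e : Γ(X, U.1)}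
    (he : e ∈ nonZeroDivisors Γ(X, U.1)) {s : Γ(X, U.1)}
    (hs : (X.presheaf.map (homOfLE (X.basicOpen_le e)).op).hom s = 0) : s = 0 := by
  haveI := U.2.isLocalization_basicOpen e
  have hle : Submonoid.powers e ≤ nonZeroDivisors Γ(X, U.1) :=
    Submonoid.powers_le.mpr he
  exact IsLocalization.injective Γ(X, X.basicOpen e) hle (hs.trans (map_zero _).symm)

lemma basicOpen_disjoint_support {I : X.IdealSheafData} {U : X.affineOpens} {e : Γ(X, U.1)}
    (he : e ∈ I.ideal U) {y : X} (hy : y ∈ X.basicOpen e) : y ∉ I.support := fun h => by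
  have := (Scheme.IdealSheafData.mem_support_iff_of_mem (U := U) (X.basicOpen_le e hy)).mp h
  rw [Scheme.mem_zeroLocus_iff] at this
  exact this e he hy

section IsBlowUp

variable {X' : Scheme.{u}} {I : X.IdealSheafData} {b : X' ⟶ X}

lemma comap_eq_top_of_range_disjoint {Z : Scheme.{u}} (g : Z ⟶ X) (J : X.IdealSheafData)
    (h : ∀ z, g z ∉ J.support) : J.comap g = ⊤ := by
  rw [← Scheme.IdealSheafData.support_eq_bot_iff, Scheme.IdealSheafData.support_comap]
  ext z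
  simpa using h z

lemma isIso_morphismRestrict (hb : BlowUp.IsBlowUp b I) (W : X.Opens)
    (hW : ∀ x ∈ W, x ∉ I.support) : IsIso (b ∣_ W) := by
  obtain ⟨h, hh, -⟩ := hb.2 _ W.ι (by
    rw [comap_eq_top_of_range_disjoint W.ι I (fun z => hW _ z.2)]; exact isEffCartierIdeal_top)
  have hrange : Set.range h ⊆ Set.range (b ⁻¹ᵁ W).ι := by
    rintro _ ⟨z, rfl⟩
    rw [Scheme.Opens.range_ι]
    change b (h z) ∈ W
    rw [← Scheme.Hom.comp_apply, hh]
    exact z.2
  let h' := IsOpenImmersion.lift (b ⁻¹ᵁ W).ι h hrange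
  have hh' : h' ≫ (b ⁻¹ᵁ W).ι = h := IsOpenImmersion.lift_fac _ _ _
  refine ⟨h', ?_, ?_⟩
  · rw [← cancel_mono (b ⁻¹ᵁ W).ι, Category.assoc, hh', Category.id_comp]
    obtain ⟨k, -, hk⟩ := hb.2 _ ((b ∣_ W) ≫ W.ι) (by
      rw [comap_eq_top_of_range_disjoint _ I (fun z => hW _ ((b ∣_ W) z).2)]
      exact isEffCartierIdeal_top)
    rw [hk ((b ∣_ W) ≫ h) (by simp only [Category.assoc, hh]),
      hk (b ⁻¹ᵁ W).ι (morphismRestrict_ι b W).symm]
  · rw [← cancel_mono W.ι, Category.assoc, morphismRestrict_ι, ← Category.assoc, hh', hh,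
      Category.id_comp]

/-- The pullback of an effective Cartier ideal along a blow-up is effective Cartier. -/
lemma isEffCartierIdeal_comap_blowUp (hb : BlowUp.IsBlowUp b I) {D : X.IdealSheafData}
    (hD : BlowUp.IsEffCartierIdeal D) : BlowUp.IsEffCartierIdeal (D.comap b) := fun x' => by
  obtain ⟨U, hxU, d, hd, hdU⟩ := hD (b x')
  obtain ⟨V, hxV, hVU, e, he, heV⟩ := exists_gen hb.1 (W := b ⁻¹ᵁ U.1) (x := x') hxU
  refine ⟨V, hxV, (b.appLE U.1 V.1 hVU).hom d, ?_, ?_⟩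
  swap
  · rw [ideal_comap D b U V hVU, hdU, Ideal.map_span, Set.image_singleton]
  refine mem_nonZeroDivisors_iff_right.mpr fun s hs => eq_zero_of_res_basicOpen_eq_zero he ?_
  set T : X'.affineOpens := X'.affineBasicOpen e
  have hTV : T.1 ≤ V.1 := X'.basicOpen_le e
  let W : X.Opens := ⟨(I.support : Set X)ᶜ, I.support.isClosed.isOpen_compl⟩
  have hTW : T.1 ≤ b ⁻¹ᵁ W := fun y hy => by
    have := basicOpen_disjoint_support (I := I.comap b) (heV ▸ Ideal.mem_span_singleton_self e) hy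
    rw [Scheme.IdealSheafData.support_comap] at this
    exact this
  haveI : IsIso (b ∣_ W) := isIso_morphismRestrict hb W fun x hx => hx
  haveI : Flat (T.1.ι ≫ b) := by
    have : T.1.ι ≫ b = X'.homOfLE hTW ≫ (b ∣_ W) ≫ W.ι := by
      rw [morphismRestrict_ι, Scheme.homOfLE_ι_assoc]
    rw [this]; infer_instance
  have hflat := flat_appLE b U T (hTV.trans hVU)
  have h0 := congrArg (X'.presheaf.map (homOfLE hTV).op).hom hs
  rw [map_mul, map_zero, ← CommRingCat.comp_apply, Scheme.Hom.appLE_map] at h0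
  exact (mem_nonZeroDivisors_iff_right.mp (mem_nonZeroDivisors_map_of_flat hflat hd)) _ h0

end IsBlowUp

end H29Blow
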