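import Groth.Agent.H29Blow.Basic

/-!
An ideal sheaf on a locally Noetherian scheme with regular principal stalks is effective Cartier.
-/

universe u

open CategoryTheory Limits AlgebraicGeometry TopologicalSpace

namespace H29Blow

/-- An ideal which is principal regular at a prime is so on a basic open neighbourhood. -/
theorem exists_basicOpen_principal {B A : Type u} [CommRing B] [CommRing A] [Algebra B A]
    [IsNoetherianRing B] (P : Ideal B) [P.IsPrime] [IsLocalization.AtPrime A P] (I : Ideal B) {g : A}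
    (hg : g ∈ nonZeroDivisors A) (hI : I.map (algebraMap B A) = Ideal.span {g}) :
    ∃ t ∉ P, ∃ b ∈ I, ∀ (T : Type u) [CommRing T] [Algebra B T] [IsLocalization.Away t T],
      I.map (algebraMap B T) = Ideal.span {algebraMap B T b} ∧
        algebraMap B T b ∈ nonZeroDivisors T := by
  classical
  obtain ⟨⟨b₀, s⟩, hb₀⟩ := IsLocalization.surj P.primeCompl g
  have hs : IsUnit (algebraMap B A s) := IsLocalization.map_units A s
  have hb₀g : Ideal.span {algebraMap B A b₀} = Ideal.span {g} := by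
    rw [← hb₀]; exact Ideal.span_singleton_mul_right_unit hs g
  have hmem : algebraMap B A b₀ ∈ I.map (algebraMap B A) := by
    rw [hI, ← hb₀g]; exact Ideal.mem_span_singleton_self _
  obtain ⟨t₀, ht₀, ht₀b⟩ := (IsLocalization.algebraMap_mem_map_algebraMap_iff P.primeCompl A I b₀).mp hmem
  have ht₀u : IsUnit (algebraMap B A t₀) := IsLocalization.map_units A ⟨t₀, ht₀⟩
  set b := t₀ * b₀ with hbdef
  have hIb : I.map (algebraMap B A) = Ideal.span {algebraMap B A b} := by
    rw [hI, ← hb₀g, hbdef, map_mul, Ideal.span_singleton_mul_left_unit ht₀u]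
  have hbreg : algebraMap B A b ∈ nonZeroDivisors A := by
    rw [hbdef, map_mul, ← hb₀]
    exact mul_mem ht₀u.mem_nonZeroDivisors (mul_mem hg hs.mem_nonZeroDivisors)
  have h1 : ∀ c ∈ I, ∃ t ∉ P, t * c ∈ Ideal.span {b} := fun c hc => by
    have hc' : algebraMap B A c ∈ (Ideal.span {b}).map (algebraMap B A) := by
      rw [Ideal.map_span, Set.image_singleton, ← hIb]; exact Ideal.mem_map_of_mem _ hc
    exact (IsLocalization.algebraMap_mem_map_algebraMap_iff P.primeCompl A _ c).mp hc'
  have h2 : ∀ c : B, c * b = 0 → ∃ t ∉ P, t * c = 0 := fun c hc => by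
    have : algebraMap B A c = 0 := hbreg.2 _ (by rw [← map_mul, hc, map_zero])
    obtain ⟨⟨t, ht⟩, htc⟩ := (IsLocalization.map_eq_zero_iff P.primeCompl A c).mp this
    exact ⟨t, ht, htc⟩
  let K : Ideal B := (LinearMap.ker (LinearMap.mulRight B b))
  have hK : ∀ c, c ∈ K ↔ c * b = 0 := fun c => Iff.rfl
  obtain ⟨sI, hsI⟩ := IsNoetherian.noetherian I
  obtain ⟨sK, hsK⟩ := IsNoetherian.noetherian K
  choose! tI htI htI' using fun c (hc : c ∈ sI) => h1 c (hsI ▸ Ideal.subset_span hc)
  choose! tK htK htK' using fun c (hc : c ∈ sK) => h2 c ((hK c).mp (hsK ▸ Ideal.subset_span hc))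
  let t := (∏ c ∈ sI, tI c) * ∏ c ∈ sK, tK c
  have htP : t ∉ P := by
    intro h
    rcases (Ideal.IsPrime.mem_or_mem ‹_› h) with h | h
    · obtain ⟨c, hc, hcP⟩ := (Ideal.IsPrime.prod_mem_iff).mp h; exact htI c hc hcP
    · obtain ⟨c, hc, hcP⟩ := (Ideal.IsPrime.prod_mem_iff).mp h; exact htK c hc hcP
  refine ⟨t, htP, b, ht₀b, fun T _ _ _ => ?_⟩
  have htu : IsUnit (algebraMap B T t) := IsLocalization.Away.algebraMap_isUnit t
  constructor
  · refine le_antisymm ?_ ?_
    · rw [← hsI, Ideal.map_span, Ideal.span_le]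
      rintro _ ⟨c, hc, rfl⟩
      have hdvd : tI c ∣ t := (Finset.dvd_prod_of_mem tI hc).trans (dvd_mul_right _ _)
      obtain ⟨d, hd⟩ := hdvd
      have : t * c ∈ Ideal.span {b} := by
        rw [hd, mul_comm (tI c), mul_assoc]; exact Ideal.mul_mem_left _ _ (htI' c hc)
      have h3 := Ideal.mem_map_of_mem (algebraMap B T) this
      rw [map_mul, Ideal.map_span, Set.image_singleton] at h3
      exact (Ideal.unit_mul_mem_iff_mem _ htu).mp h3
    · rw [Ideal.span_le, Set.singleton_subset_iff]; exact Ideal.mem_map_of_mem _ ht₀b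
  · have hKt : ∀ c ∈ K, algebraMap B T c = 0 := by
      intro c hc
      rw [← hsK] at hc
      induction hc using Submodule.span_induction with
      | mem c hc =>
        obtain ⟨d, hd⟩ := (Finset.dvd_prod_of_mem tK hc).trans (dvd_mul_left _ (∏ c ∈ sI, tI c))
        apply htu.mul_right_eq_zero.mp
        rw [← map_mul, show t * c = d * (tK c * c) by rw [show t = tK c * d from hd]; ring, htK' c hc,
          mul_zero, map_zero]
      | zero => simp
      | add x y _ _ hx hy => rw [map_add, hx, hy, add_zero]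
      | smul r x _ hx => rw [smul_eq_mul, map_mul, hx, mul_zero]
    refine mem_nonZeroDivisors_iff_right.mpr fun x hx => ?_
    obtain ⟨⟨c, ⟨_, n, rfl⟩⟩, hc⟩ := IsLocalization.surj (Submonoid.powers t) x
    have h4 : algebraMap B T (c * b) = 0 := by rw [map_mul, ← hc, mul_right_comm, hx, zero_mul]
    obtain ⟨⟨_, m, rfl⟩, hm⟩ := (IsLocalization.map_eq_zero_iff (Submonoid.powers t) T _).mp h4
    have h5 := hKt (t ^ m * c) ((hK _).mpr (by rw [mul_assoc]; exact hm))
    rw [map_mul, map_pow] at h5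
    have h6 := (htu.pow m).mul_right_eq_zero.mp h5
    rw [h6] at hc
    exact (IsLocalization.map_units T (⟨t ^ n, n, rfl⟩ : Submonoid.powers t)).mul_left_eq_zero.mp hc

variable {X : Scheme.{u}}

/-- Effective Cartier from stalks. -/
theorem isEffCartierIdeal_of_stalk [IsLocallyNoetherian X] (I : X.IdealSheafData)
    (h : ∀ (x : X) (V : X.affineOpens) (hx : x ∈ V.1), ∃ g ∈ nonZeroDivisors (X.presheaf.stalk x),
      (I.ideal V).map (X.presheaf.germ V.1 x hx).hom = Ideal.span {g}) :
    BlowUp.IsEffCartierIdeal I := fun x => by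
  obtain ⟨V, hV, hxV, -⟩ := exists_isAffineOpen_mem_and_subset (Opens.mem_top x)
  obtain ⟨g, hg, hgV⟩ := h x ⟨V, hV⟩ hxV
  haveI : IsNoetherianRing Γ(X, V) := IsLocallyNoetherian.component_noetherian ⟨V, hV⟩
  letI := TopCat.Presheaf.algebra_section_stalk X.presheaf (⟨x, hxV⟩ : V)
  haveI := hV.isLocalization_stalk ⟨x, hxV⟩
  obtain ⟨t, ht, b, hb, hT⟩ := exists_basicOpen_principal (A := X.presheaf.stalk x)
    (hV.primeIdealOf ⟨x, hxV⟩).asIdeal (I.ideal ⟨V, hV⟩) hg hgV
  let W := X.affineBasicOpen (U := ⟨V, hV⟩) t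
  letI : Algebra Γ(X, V) Γ(X, W.1) := (X.presheaf.map (homOfLE (X.basicOpen_le t)).op).hom.toAlgebra
  haveI : IsLocalization.Away t Γ(X, W.1) := hV.isLocalization_basicOpen t
  obtain ⟨h1, h2⟩ := hT Γ(X, W.1)
  refine ⟨W, ?_, _, h2, ?_⟩
  · change x ∈ X.basicOpen t
    rw [X.mem_basicOpen _ x hxV]
    exact IsLocalization.map_units (X.presheaf.stalk x) (⟨t, ht⟩ : (hV.primeIdealOf ⟨x, hxV⟩).asIdeal.primeCompl)
  · rw [← I.map_ideal (U := W) (V := ⟨V, hV⟩) (X.basicOpen_le t)]
    exact h1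

/-- At a point outside the support the stalk of the ideal is the unit ideal. -/
theorem map_germ_eq_top_of_notMem_support (I : X.IdealSheafData) (x : X) (V : X.affineOpens)
    (hx : x ∈ V.1) (h : x ∉ I.support) :
    (I.ideal V).map (X.presheaf.germ V.1 x hx).hom = ⊤ := by
  have h' : x ∉ X.zeroLocus (U := V.1) (I.ideal V) := fun hz =>
    h ((Scheme.IdealSheafData.mem_support_iff_of_mem hx).mpr hz)
  rw [Scheme.mem_zeroLocus_iff] at h'
  push Not at h'
  obtain ⟨f, hf, hfx⟩ := h'
  rw [X.mem_basicOpen _ x hx] at hfx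
  exact Ideal.eq_top_of_isUnit_mem _ (Ideal.mem_map_of_mem _ hf) hfx

end H29Blow
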