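import Groth.Agent.H29Blow.Basic
import Groth.Agent.H4Depth.DepthLemmas

/-!
Stalks of closed subschemes; depth and dimension along effective Cartier divisors.
-/

universe u v

open CategoryTheory Limits AlgebraicGeometry TopologicalSpace RingTheory.Sequence

namespace H29Blow

/-- Depth along a surjective ring map. -/
theorem idealDepth_of_surjective {A : Type u} {B : Type u} [CommRing A] [CommRing B] [Algebra A B]
    (hs : Function.Surjective (algebraMap A B)) (I : Ideal A) (M : Type v) [AddCommGroup M]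
    [Module A M] [Module B M] [IsScalarTower A B M] :
    LocCoh.idealDepth I M = LocCoh.idealDepth (I.map (algebraMap A B)) M := by
  have htop : I • (⊤ : Submodule A M) = ⊤ ↔
      I.map (algebraMap A B) • (⊤ : Submodule B M) = ⊤ := by
    rw [← Submodule.restrictScalars_inj A B M, Submodule.restrictScalars_top,
      Ideal.smul_restrictScalars, Submodule.restrictScalars_top]
  by_cases h : I • (⊤ : Submodule A M) = ⊤
  · rw [Groth.Agent.H4Depth.idealDepth_eq_top h, Groth.Agent.H4Depth.idealDepth_eq_top (htop.mp h)]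
  rw [Groth.Agent.H4Depth.idealDepth_eq_iSup h, Groth.Agent.H4Depth.idealDepth_eq_iSup (mt htop.mpr h)]
  apply le_antisymm
  · refine iSup₂_le fun rs hrs => le_iSup₂_of_le (rs.map (algebraMap A B))
      ⟨(isWeaklyRegular_map_algebraMap_iff B M rs).mpr hrs.1, fun r hr => ?_⟩ (by simp)
    obtain ⟨a, ha, rfl⟩ := List.mem_map.mp hr
    exact Ideal.mem_map_of_mem _ (hrs.2 a ha)
  · refine iSup₂_le fun rs hrs => ?_
    choose g hg using fun b : B => show ∃ a, algebraMap A B a = b ∧ (b ∈ I.map (algebraMap A B) → a ∈ I) by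
      by_cases hb : b ∈ I.map (algebraMap A B)
      · obtain ⟨a, ha, rfl⟩ := (Ideal.mem_map_iff_of_surjective _ hs).mp hb
        exact ⟨a, rfl, fun _ => ha⟩
      · obtain ⟨a, rfl⟩ := hs b
        exact ⟨a, rfl, fun h => absurd h hb⟩
    refine le_iSup₂_of_le (rs.map g) ⟨(isWeaklyRegular_map_algebraMap_iff B M _).mp ?_, fun r hr => ?_⟩ (by simp)
    · rw [List.map_map]
      convert hrs.1
      exact List.map_congr_left (fun b _ => (hg b).1) |>.trans (List.map_id rs)
    · obtain ⟨b, hb, rfl⟩ := List.mem_map.mp hr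
      exact (hg b).2 (hrs.2 b hb)

/-- Depth and dimension drop by one modulo a regular element, in the form of a surjection. -/
theorem depth_dim_of_surjective {A B : Type u} [CommRing A] [CommRing B] [IsLocalRing A]
    [IsLocalRing B] [IsNoetherianRing A] (π : A →+* B) (hs : Function.Surjective π) {g : A}
    (hg : g ∈ nonZeroDivisors A) (hgm : g ∈ IsLocalRing.maximalIdeal A)
    (hker : RingHom.ker π = Ideal.span {g}) :
    LocCoh.depth B B + 1 = LocCoh.depth A A ∧ ringKrullDim B + 1 = ringKrullDim A := by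
  refine ⟨?_, ?_⟩
  · letI : Algebra A B := π.toAlgebra
    have hm : (IsLocalRing.maximalIdeal A).map (algebraMap A B) = IsLocalRing.maximalIdeal B :=
      IsLocalRing.map_maximalIdeal_of_surjective _ hs
    let e' : (QuotSMulTop g A) ≃ₗ[A] B :=
      (Submodule.quotEquivOfEq _ (LinearMap.ker (Algebra.linearMap A B)) (by
        have : LinearMap.ker (Algebra.linearMap A B) = Ideal.span {g} := by
          ext a; rw [← hker]; rfl
        rw [this, ← Submodule.ideal_span_singleton_smul, smul_eq_mul, Ideal.mul_top])).trans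
        (LinearMap.quotKerEquivOfSurjective (Algebra.linearMap A B) hs)
    unfold LocCoh.depth
    rw [← hm, ← idealDepth_of_surjective hs, ← Groth.Agent.H4Depth.idealDepth_congr _ e',
      Groth.Agent.H4Depth.idealDepth_quotSMulTop_add_one hgm
        (Module.Flat.isSMulRegular_of_nonZeroDivisors hg)]
  · rw [← ringKrullDim_eq_of_ringEquiv ((Ideal.quotEquivOfEq hker.symm).trans
      (RingHom.quotientKerEquivOfSurjective hs))]
    exact ringKrullDim_quotient_span_singleton_succ_eq_ringKrullDim_of_mem_nonZeroDivisors hg hgm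

variable {X : Scheme.{u}} (I : X.IdealSheafData)

/-- The kernel of the stalk map of a closed subscheme. -/
theorem ker_stalkMap_subschemeι (d : I.subscheme) (V : X.affineOpens)
    (hd : I.subschemeι d ∈ V.1) :
    RingHom.ker (I.subschemeι.stalkMap d).hom =
      (I.ideal V).map (X.presheaf.germ V.1 (I.subschemeι d) hd).hom := by
  let ι := I.subschemeι
  refine le_antisymm (fun b hb => ?_) ?_
  · rw [RingHom.mem_ker] at hb
    let := TopCat.Presheaf.algebra_section_stalk X.presheaf (⟨ι d, hd⟩ : V.1)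
    have := V.2.isLocalization_stalk ⟨ι d, hd⟩
    obtain ⟨⟨w, s⟩, hws⟩ := IsLocalization.surj (V.2.primeIdealOf ⟨ι d, hd⟩).asIdeal.primeCompl b
    change b * X.presheaf.germ V.1 (ι d) hd (s : Γ(X, V.1)) = X.presheaf.germ V.1 (ι d) hd w at hws
    have hw0 : I.subscheme.presheaf.germ (ι ⁻¹ᵁ V.1) d hd (ι.app V.1 w) = 0 := by
      rw [← Scheme.Hom.germ_stalkMap_apply, ← hws, map_mul, hb, zero_mul]
    have hW' : IsAffineOpen (ι ⁻¹ᵁ V.1) := V.2.preimage ι
    let := TopCat.Presheaf.algebra_section_stalk I.subscheme.presheaf (⟨d, hd⟩ : ι ⁻¹ᵁ V.1)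
    have := hW'.isLocalization_stalk ⟨d, hd⟩
    obtain ⟨⟨c, hc⟩, hcw⟩ := (IsLocalization.map_eq_zero_iff
      (hW'.primeIdealOf ⟨d, hd⟩).asIdeal.primeCompl (I.subscheme.presheaf.stalk d) _).mp hw0
    obtain ⟨t, ht⟩ := I.subschemeι_app_surjective V c
    have htw : t * w ∈ I.ideal V := by
      rw [← Scheme.IdealSheafData.ker_subschemeι_app, RingHom.mem_ker, map_mul]
      erw [ht]; exact hcw
    have htu : IsUnit (X.presheaf.germ V.1 (ι d) hd t) := by
      have h1 : IsUnit (I.subscheme.presheaf.germ (ι ⁻¹ᵁ V.1) d hd c) :=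
        IsLocalization.map_units (I.subscheme.presheaf.stalk d) (⟨c, hc⟩ : (hW'.primeIdealOf ⟨d, hd⟩).asIdeal.primeCompl)
      rw [← ht] at h1
      erw [← Scheme.Hom.germ_stalkMap_apply] at h1
      exact isUnit_of_map_unit (ι.stalkMap d).hom _ h1
    have hsu : IsUnit (X.presheaf.germ V.1 (ι d) hd (s : Γ(X, V.1))) :=
      IsLocalization.map_units (X.presheaf.stalk (ι d)) s
    have h2 := Ideal.mem_map_of_mem (X.presheaf.germ V.1 (ι d) hd).hom htw
    rw [map_mul] at h2
    rw [Ideal.unit_mul_mem_iff_mem _ htu] at h2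
    change (X.presheaf.germ V.1 (ι d) hd).hom w ∈ _ at h2
    rw [show (X.presheaf.germ V.1 (ι d) hd).hom w = b * X.presheaf.germ V.1 (ι d) hd (s : Γ(X, V.1))
      from hws.symm] at h2
    exact (Ideal.mul_unit_mem_iff_mem _ hsu).mp h2
  · rw [Ideal.map_le_iff_le_comap]
    intro w hw
    rw [Ideal.mem_comap, RingHom.mem_ker]
    change ι.stalkMap d (X.presheaf.germ V.1 (ι d) hd w) = 0
    rw [Scheme.Hom.germ_stalkMap_apply]
    rw [← Scheme.IdealSheafData.ker_subschemeι_app, RingHom.mem_ker] at hw
    erw [hw]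
    rw [map_zero]

/-- At a point of an effective Cartier divisor the stalk is the quotient of the ambient stalk by a
regular element of the maximal ideal. -/
theorem exists_gen_stalk (hI : BlowUp.IsEffCartierIdeal I) (d : I.subscheme) :
    ∃ g ∈ nonZeroDivisors (X.presheaf.stalk (I.subschemeι d)),
      g ∈ IsLocalRing.maximalIdeal (X.presheaf.stalk (I.subschemeι d)) ∧
        RingHom.ker (I.subschemeι.stalkMap d).hom = Ideal.span {g} := by
  obtain ⟨V, hV, -, a, ha, haV⟩ := exists_gen hI (W := ⊤) (x := I.subschemeι d) trivial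
  letI := X.presheaf.algebra_section_stalk (⟨I.subschemeι d, hV⟩ : V.1)
  haveI := V.2.isLocalization_stalk ⟨I.subschemeι d, hV⟩
  haveI : Module.Flat Γ(X, V.1) (X.presheaf.stalk (I.subschemeι d)) :=
    IsLocalization.flat _ (V.2.primeIdealOf ⟨I.subschemeι d, hV⟩).asIdeal.primeCompl
  have hker : RingHom.ker (I.subschemeι.stalkMap d).hom =
      Ideal.span {algebraMap Γ(X, V.1) (X.presheaf.stalk (I.subschemeι d)) a} := by
    rw [ker_stalkMap_subschemeι I d V hV, haV, Ideal.map_span, Set.image_singleton]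
    rfl
  refine ⟨_, mem_nonZeroDivisors_map_of_flat (RingHom.flat_algebraMap_iff.mpr inferInstance) ha,
    ?_, hker⟩
  rw [IsLocalRing.mem_maximalIdeal, mem_nonunits_iff]
  intro hu
  have : algebraMap Γ(X, V.1) (X.presheaf.stalk (I.subschemeι d)) a ∈
      RingHom.ker (I.subschemeι.stalkMap d).hom := hker ▸ Ideal.mem_span_singleton_self _
  rw [RingHom.mem_ker] at this
  have h2 := hu.map (I.subschemeι.stalkMap d).hom
  rw [this] at h2
  exact not_isUnit_zero h2

/-- Depth and dimension drop by one along an effective Cartier divisor. -/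
theorem depth_dim_stalk_subscheme [IsLocallyNoetherian X] (hI : BlowUp.IsEffCartierIdeal I)
    (d : I.subscheme) :
    LocCoh.depth (I.subscheme.presheaf.stalk d) (I.subscheme.presheaf.stalk d) + 1 =
      LocCoh.depth (X.presheaf.stalk (I.subschemeι d)) (X.presheaf.stalk (I.subschemeι d)) ∧
    ringKrullDim (I.subscheme.presheaf.stalk d) + 1 =
      ringKrullDim (X.presheaf.stalk (I.subschemeι d)) := by
  obtain ⟨g, hg, hgm, hker⟩ := exists_gen_stalk I hI d
  exact depth_dim_of_surjective _ (I.subschemeι.stalkMap_surjective d) hg hgm hker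

end H29Blow
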