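import Groth.Agent.H29Blow.Basic

/-!
Maximal points of schemes and effective Cartier ideals; reducedness of blow-ups.
-/

universe u

open CategoryTheory Limits AlgebraicGeometry TopologicalSpace

namespace H29Blow

variable {X : Scheme.{u}}

lemma exists_maximal_generization (x : X) :
    ∃ ξ : X, ξ ⤳ x ∧ ∀ y : X, y ⤳ ξ → y = ξ := by
  obtain ⟨Z, hZ, hxZ⟩ : ∃ Z ∈ irreducibleComponents X, x ∈ Z :=
    ⟨irreducibleComponent x, irreducibleComponent_mem_irreducibleComponents x,
      mem_irreducibleComponent⟩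
  have hZi : IsIrreducible Z := hZ.1
  have hZc : IsClosed Z := isClosed_of_mem_irreducibleComponents Z hZ
  have hgen := hZi.isGenericPoint_genericPoint hZc
  refine ⟨hZi.genericPoint, hgen.specializes hxZ, fun y hy => ?_⟩
  have h1 : Z ⊆ closure {y} := by
    rw [← hgen.def]; exact specializes_iff_closure_subset.mp hy
  have h2 : closure {y} ⊆ Z := hZ.2 isIrreducible_singleton.closure h1
  have h3 : hZi.genericPoint ⤳ y := hgen.specializes (h2 (subset_closure rfl))
  exact (hy.antisymm h3).eq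

lemma not_mem_support_of_maximal {I : X.IdealSheafData} (hI : BlowUp.IsEffCartierIdeal I)
    (x : X) (hx : ∀ y : X, y ⤳ x → y = x) : x ∉ I.support := by
  intro hmem
  obtain ⟨V, hxV, e, he, heV⟩ := hI x
  rw [Scheme.IdealSheafData.mem_support_iff_of_mem (U := V) hxV, Scheme.mem_zeroLocus_iff] at hmem
  have hne : x ∉ X.basicOpen e := hmem e (heV ▸ Ideal.mem_span_singleton_self e)
  rw [X.mem_basicOpen _ x hxV] at hne
  set g := X.presheaf.germ V.1 x hxV e
  have hsub : ∀ p : PrimeSpectrum (X.presheaf.stalk x),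
      p = IsLocalRing.closedPoint (X.presheaf.stalk x) := by
    intro p
    apply (X.fromSpecStalk x).isEmbedding.injective
    have : (X.fromSpecStalk x) p ∈ Set.range (X.fromSpecStalk x) := ⟨p, rfl⟩
    rw [Scheme.range_fromSpecStalk] at this
    rw [hx _ this]
    exact Scheme.fromSpecStalk_closedPoint.symm
  have hnil : IsNilpotent g := by
    rw [← mem_nilradical, nilradical_eq_sInf, Ideal.mem_sInf]
    intro P hP
    have := congrArg PrimeSpectrum.asIdeal (hsub ⟨P, hP⟩)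
    simp only [IsLocalRing.closedPoint] at this
    rw [this, IsLocalRing.mem_maximalIdeal]
    exact hne
  haveI := V.2.isLocalization_stalk ⟨x, hxV⟩
  letI := TopCat.Presheaf.algebra_section_stalk X.presheaf (⟨x, hxV⟩ : V.1)
  haveI : Module.Flat Γ(X, V.1) (X.presheaf.stalk x) :=
    IsLocalization.flat _ (V.2.primeIdealOf ⟨x, hxV⟩).asIdeal.primeCompl
  have hreg : g ∈ nonZeroDivisors (X.presheaf.stalk x) :=
    mem_nonZeroDivisors_map_of_flat
      (φ := algebraMap Γ(X, V.1) (X.presheaf.stalk x))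
      (RingHom.flat_algebraMap_iff.mpr inferInstance) he
  obtain ⟨n, hn⟩ := hnil
  exact zero_ne_one ((mem_nonZeroDivisors_iff_right.mp (pow_mem hreg n)) 1
    (by rw [one_mul, hn])).symm

lemma eq_zero_of_mul_eq_zero_of_maximal_mem [IsReduced X] {V : X.Opens} {a s : Γ(X, V)}
    (h : s * a = 0) (ha : ∀ ξ ∈ V, (∀ y : X, y ⤳ ξ → y = ξ) → ξ ∈ X.basicOpen a) : s = 0 := by
  apply eq_zero_of_basicOpen_eq_bot
  by_contra hne
  obtain ⟨y, hy⟩ : ∃ y, y ∈ X.basicOpen s := by
    by_contra hc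
    push_neg at hc
    exact hne (eq_bot_iff.mpr fun y hy => (hc y hy).elim)
  obtain ⟨ξ, hξy, hξ⟩ := exists_maximal_generization y
  have hξs : ξ ∈ X.basicOpen s := hξy.mem_open (X.basicOpen s).2 hy
  have : ξ ∈ X.basicOpen (s * a) := by
    rw [Scheme.basicOpen_mul]
    exact ⟨hξs, ha ξ (X.basicOpen_le s hξs) hξ⟩
  rw [h, Scheme.basicOpen_zero] at this
  exact this

/-- The blow-up of a reduced scheme is reduced. -/
lemma isReduced_blowUp [IsReduced X] {X' : Scheme.{u}} {I : X.IdealSheafData} {b : X' ⟶ X}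
    (hb : BlowUp.IsBlowUp b I) : IsReduced X' := by
  have key : ∀ x' : X', _root_.IsReduced (X'.presheaf.stalk x') := fun x' => by
    obtain ⟨V, hxV, e, he, heV⟩ := hb.1 x'
    haveI : _root_.IsReduced Γ(X', V.1) := by
      refine ⟨fun s hs => eq_zero_of_res_basicOpen_eq_zero he ?_⟩
      let W : X.Opens := ⟨(I.support : Set X)ᶜ, I.support.isClosed.isOpen_compl⟩
      have hTW : X'.basicOpen e ≤ b ⁻¹ᵁ W := fun y hy => by
        have := basicOpen_disjoint_support (I := I.comap b) (heV ▸ Ideal.mem_span_singleton_self e) hy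
        rw [Scheme.IdealSheafData.support_comap] at this
        exact this
      haveI : IsIso (b ∣_ W) := isIso_morphismRestrict hb W fun x hx => hx
      haveI : IsOpenImmersion ((X'.basicOpen e).ι ≫ b) := by
        have : (X'.basicOpen e).ι ≫ b = X'.homOfLE hTW ≫ (b ∣_ W) ≫ W.ι := by
          rw [morphismRestrict_ι, Scheme.homOfLE_ι_assoc]
        rw [this]; infer_instance
      haveI : IsReduced ((X'.basicOpen e) : Scheme.{u}) :=
        isReduced_of_isOpenImmersion ((X'.basicOpen e).ι ≫ b)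
      haveI : _root_.IsReduced Γ(X', X'.basicOpen e) :=
        isReduced_of_injective ((X'.basicOpen e).topIso.inv.hom)
          (ConcreteCategory.bijective_of_isIso ((X'.basicOpen e).topIso.inv)).1
      exact (hs.map _).eq_zero
    haveI := V.2.isLocalization_stalk ⟨x', hxV⟩
    letI := TopCat.Presheaf.algebra_section_stalk X'.presheaf (⟨x', hxV⟩ : V.1)
    exact isReduced_localizationPreserves (V.2.primeIdealOf ⟨x', hxV⟩).asIdeal.primeCompl
      (X'.presheaf.stalk x') inferInstance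
  exact isReduced_of_isReduced_stalk X'

lemma isEffCartierIdeal_comap_of_maximal_avoid {Y : Scheme.{u}} [IsReduced X] (f : X ⟶ Y)
    {D : Y.IdealSheafData} (hD : BlowUp.IsEffCartierIdeal D)
    (h : ∀ ξ : X, (∀ y : X, y ⤳ ξ → y = ξ) → f ξ ∉ D.support) :
    BlowUp.IsEffCartierIdeal (D.comap f) := fun x => by
  obtain ⟨U, hxU, a, ha, haU⟩ := hD (f x)
  obtain ⟨V, hV, hxV, hVU⟩ := exists_isAffineOpen_mem_and_subset (U := f ⁻¹ᵁ U.1) (x := x) hxU
  have hideal : (D.comap f).ideal ⟨V, hV⟩ = Ideal.span {(f.appLE U.1 V hVU).hom a} := by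
    rw [ideal_comap D f U ⟨V, hV⟩ hVU, haU, Ideal.map_span, Set.image_singleton]
  refine ⟨⟨V, hV⟩, hxV, _, mem_nonZeroDivisors_iff_right.mpr fun s hs =>
    eq_zero_of_mul_eq_zero_of_maximal_mem hs fun ξ hξV hξ => ?_, hideal⟩
  have hns : ξ ∉ (D.comap f).support := by
    rw [Scheme.IdealSheafData.support_comap]; exact h ξ hξ
  rw [Scheme.IdealSheafData.mem_support_iff_of_mem (U := ⟨V, hV⟩) hξV, hideal,
    Scheme.zeroLocus_span, Scheme.mem_zeroLocus_iff] at hns
  simpa using hns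

lemma bijOn_maximalPoints {X' : Scheme.{u}} {I : X.IdealSheafData} {b : X' ⟶ X}
    (hb : BlowUp.IsBlowUp b I) :
    Set.BijOn (fun x' => b x') {x' : X' | ∀ y : X', y ⤳ x' → y = x'}
      {x : X | (∀ y : X, y ⤳ x → y = x) ∧ x ∉ I.support} := by
  let W : X.Opens := ⟨(I.support : Set X)ᶜ, I.support.isClosed.isOpen_compl⟩
  haveI : IsIso (b ∣_ W) := isIso_morphismRestrict hb W fun x hx => hx
  have hbij : Function.Bijective (b ∣_ W) := (b ∣_ W).homeomorph.bijective
  have hind : ∀ p q : (b ⁻¹ᵁ W : X'.Opens), b p.1 ⤳ b q.1 → p.1 ⤳ q.1 := by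
    intro p q h
    have h' : (b ∣_ W) p ⤳ (b ∣_ W) q :=
      (subtype_specializes_iff ((b ∣_ W) p) ((b ∣_ W) q)).mpr
        (by simpa [morphismRestrict_base_coe] using! h)
    exact (subtype_specializes_iff p q).mp
      ((b ∣_ W).isOpenEmbedding.isInducing.specializes_iff.mp h')
  have hnotE : ∀ x' : X', (∀ y : X', y ⤳ x' → y = x') → b x' ∈ W := fun x' hx' => by
    have := not_mem_support_of_maximal hb.1 x' hx'
    rw [Scheme.IdealSheafData.support_comap] at this
    exact this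
  have hinj : ∀ p q : (b ⁻¹ᵁ W : X'.Opens), b p.1 = b q.1 → p.1 = q.1 := fun p q h =>
    ((hind p q (h ▸ specializes_rfl)).antisymm (hind q p (h ▸ specializes_rfl))).eq
  have hsurj : ∀ x ∈ W, ∃ p : (b ⁻¹ᵁ W : X'.Opens), b p.1 = x := fun x hx => by
    obtain ⟨p, hp⟩ := hbij.2 ⟨x, hx⟩
    exact ⟨p, by simpa [morphismRestrict_base_coe] using! congrArg Subtype.val hp⟩
  refine ⟨fun x' hx' => ⟨fun y hy => ?_, hnotE x' hx'⟩, fun p hp q hq h => ?_, fun x hx => ?_⟩
  · have hyW : y ∈ W := hy.mem_open W.2 (hnotE x' hx')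
    obtain ⟨p, rfl⟩ := hsurj y hyW
    rw [hx' p.1 (hind p ⟨x', hnotE x' hx'⟩ hy)]
  · exact hinj ⟨p, hnotE p hp⟩ ⟨q, hnotE q hq⟩ h
  · obtain ⟨p, rfl⟩ := hsurj x hx.2
    refine ⟨p.1, fun y hy => ?_, rfl⟩
    have hyW : y ∈ b ⁻¹ᵁ W := hy.mem_open (b ⁻¹ᵁ W).2 p.2
    exact hinj ⟨y, hyW⟩ p (hx.1 _ (hy.map b.continuous))

end H29Blow
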