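import Groth.Agent.H29Blow.WeakAss
import Groth.Agent.H29Blow.PointsOfAffine

/-!
Annihilators of sections over an affine open versus germs, support and weakly associated points.
-/

universe u

open CategoryTheory Limits AlgebraicGeometry TopologicalSpace

namespace H29Blow

variable {X : Scheme.{u}} (F : X.Modules) (hF : Coh.IsQCoh F) {V : X.Opens}

/-- The annihilator of a section. -/
noncomputable abbrev secAnn (s : Γ(F, V)) : Ideal Γ(X, V) :=
  LinearMap.ker (LinearMap.toSpanSingleton Γ(X, V) Γ(F, V) s)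

lemma mem_secAnn {s : Γ(F, V)} {a : Γ(X, V)} : a ∈ secAnn F s ↔ a • s = 0 := by simp

lemma germ_secAnn_smul {s : Γ(F, V)} {y : X} (hy : y ∈ V) {a : Γ(X, V)} (ha : a • s = 0) :
    X.presheaf.germ V y hy a • F.presheaf.germ V y hy s = 0 := by
  refine ((PresheafOfModules.germ_smul (R := X.presheaf)
    (show PresheafOfModules (X.presheaf ⋙ forget₂ CommRingCat RingCat) from
      F.val) y V hy a s).symm).trans ?_
  exact (congrArg _ ha).trans (map_zero _)

include hF in
lemma exists_smul_eq_zero_of_germ (hV : IsAffineOpen V) (y : V) (s : Γ(F, V))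
    (h : F.presheaf.germ V y.1 y.2 s = 0) :
    ∃ c, c ∉ (hV.primeIdealOf y).asIdeal ∧ c • s = 0 := by
  obtain ⟨W, hyW, i, j, hW⟩ := F.presheaf.germ_eq y.1 y.2 y.2 _ _
    (h.trans (map_zero (F.presheaf.germ V y.1 y.2).hom).symm)
  obtain ⟨t, htW, hyt⟩ := hV.exists_basicOpen_le (V := W) ⟨y.1, hyW⟩ y.2
  obtain ⟨n, hn⟩ := exists_pow_smul_eq_zero F hF hV t s (by
    have := congrArg (F.presheaf.map (homOfLE htW).op) hW
    rw [map_zero, map_zero, ← ConcreteCategory.comp_apply, ← Functor.map_comp] at this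
    exact this)
  refine ⟨t ^ n, fun hmem => ?_, hn⟩
  exact (mem_primeIdealOf_iff hV y _).mp hmem
    (by rw [map_pow]; exact ((X.mem_basicOpen t y.1 y.2).mp hyt).pow n)

include hF in
lemma germ_ne_zero_iff (hV : IsAffineOpen V) (y : V) (s : Γ(F, V)) :
    F.presheaf.germ V y.1 y.2 s ≠ 0 ↔ secAnn F s ≤ (hV.primeIdealOf y).asIdeal := by
  refine ⟨fun h a ha => ?_, fun h h0 => ?_⟩
  · rw [mem_primeIdealOf_iff]
    intro hu
    exact h (hu.smul_eq_zero.mp (germ_secAnn_smul F y.2 ((mem_secAnn F).mp ha)))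
  · obtain ⟨c, hc, hcs⟩ := exists_smul_eq_zero_of_germ F hF hV y s h0
    exact hc (h ((mem_secAnn F).mpr hcs))

include hF in
/-- A minimal prime over the annihilator of a section gives a weakly associated point. -/
lemma isWeakAssPoint_of_minimalPrimes (hV : IsAffineOpen V) (y : V) (s : Γ(F, V))
    (hp : (hV.primeIdealOf y).asIdeal ∈ (secAnn F s).minimalPrimes) :
    Curv2.IsWeakAssPoint F y.1 := by
  classical
  have hne := (germ_ne_zero_iff F hF hV y s).mpr hp.1.2
  letI := TopCat.Presheaf.algebra_section_stalk X.presheaf y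
  haveI := hV.isLocalization_stalk y
  refine ⟨F.presheaf.germ V y.1 y.2 s, le_antisymm ?_ fun a ha => ?_⟩
  · refine IsLocalRing.le_maximalIdeal fun h => ?_
    rw [Ideal.radical_eq_top, Ideal.eq_top_iff_one, LinearMap.mem_ker,
      LinearMap.toSpanSingleton_apply, one_smul] at h
    exact hne h
  · obtain ⟨⟨a₀, t⟩, rfl⟩ :=
      IsLocalization.mk'_surjective (hV.primeIdealOf y).asIdeal.primeCompl a
        |>.imp' (fun q => q) (fun q hq => hq)
    have ha₀ : a₀ ∈ (hV.primeIdealOf y).asIdeal := by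
      rwa [IsLocalization.AtPrime.mk'_mem_maximal_iff (X.presheaf.stalk y.1)
        (hV.primeIdealOf y).asIdeal a₀ t] at ha
    obtain ⟨t', ht', n, hn⟩ : ∃ t' ∉ (hV.primeIdealOf y).asIdeal, ∃ n : ℕ, (t' * a₀ ^ n) • s = 0 := by
      by_contra! hc
      obtain ⟨Q, hQp, hJQ, hQS⟩ := Ideal.exists_le_prime_disjoint (secAnn F s)
        ((hV.primeIdealOf y).asIdeal.primeCompl ⊔ Submonoid.powers a₀) (by
          rw [Set.disjoint_left]
          intro z hzJ hzS
          obtain ⟨u, hu, v, ⟨n, rfl⟩, rfl⟩ := Submonoid.mem_sup.mp hzS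
          exact hc u hu n ((mem_secAnn F).mp hzJ))
      have hQle : Q ≤ (hV.primeIdealOf y).asIdeal := fun z hz => by
        by_contra hzp
        exact Set.disjoint_left.mp hQS hz (Submonoid.mem_sup_left hzp)
      exact Set.disjoint_left.mp hQS (hp.2 ⟨hQp, hJQ⟩ hQle ha₀)
        (Submonoid.mem_sup_right (Submonoid.mem_powers a₀))
    refine ⟨n, ?_⟩
    rw [LinearMap.mem_ker, LinearMap.toSpanSingleton_apply]
    have hu : IsUnit (algebraMap Γ(X, V) (X.presheaf.stalk y.1) ((t : Γ(X, V)) ^ n * t')) :=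
      IsLocalization.map_units (X.presheaf.stalk y.1) (t ^ n * ⟨t', ht'⟩)
    refine hu.smul_eq_zero.mp ?_
    rw [smul_smul, show algebraMap Γ(X, V) (X.presheaf.stalk y.1) ((t : Γ(X, V)) ^ n * t') *
      IsLocalization.mk' (X.presheaf.stalk y.1) a₀ t ^ n =
        algebraMap Γ(X, V) (X.presheaf.stalk y.1) (t' * a₀ ^ n) by
      rw [map_mul, map_mul, map_pow, map_pow, mul_comm (algebraMap Γ(X, V) _ (t : Γ(X, V)) ^ n), mul_assoc,
        ← mul_pow, mul_comm (algebraMap Γ(X, V) _ (t : Γ(X, V))), IsLocalization.mk'_spec]]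
    exact germ_secAnn_smul F y.2 hn

end H29Blow
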