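import Groth.Agent.H29Blow.MaxPoints
import Groth.Agent.H8Props.FlatKernel

/-!
Flatness of closed subschemes cut out by ideal sheaves, and effective Cartier divisors.
-/

universe u

open CategoryTheory Limits AlgebraicGeometry TopologicalSpace
open scoped TensorProduct

namespace H29Blow

/-- An extension of flat modules is flat. -/
theorem flat_mid_of_exact {R : Type u} [CommRing R] {P M Q : Type u} [AddCommGroup P]
    [AddCommGroup M] [AddCommGroup Q] [Module R P] [Module R M] [Module R Q]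
    [Module.Flat R P] [Module.Flat R Q]
    (g : P →ₗ[R] M) (f : M →ₗ[R] Q) (hg : Function.Injective g) (H : Function.Exact g f)
    (hf : Function.Surjective f) : Module.Flat R M := by
  rw [Module.Flat.iff_rTensor_preserves_injective_linearMap]
  intro N N' _ _ _ _ φ hφ
  rw [injective_iff_map_eq_zero]
  intro x hx
  have hsq : ∀ z, LinearMap.lTensor N' f (φ.rTensor M z) = φ.rTensor Q (LinearMap.lTensor N f z) :=
    fun z => by
      induction z using TensorProduct.induction_on with
      | zero => simp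
      | tmul a b => simp
      | add a b ha hb => simp [ha, hb]
  have hsq' : ∀ z, LinearMap.lTensor N' g (φ.rTensor P z) = φ.rTensor M (LinearMap.lTensor N g z) :=
    fun z => by
      induction z using TensorProduct.induction_on with
      | zero => simp
      | tmul a b => simp
      | add a b ha hb => simp [ha, hb]
  have h1 : LinearMap.lTensor N f x = 0 := by
    apply Module.Flat.rTensor_preserves_injective_linearMap φ hφ
    rw [← hsq, hx, map_zero, map_zero]
  obtain ⟨p, rfl⟩ := (lTensor_exact N H hf x).mp h1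
  rw [← hsq'] at hx
  have h2 := LinearMap.lTensor_injective_of_exact_of_flat f hf g hg H N' (hx.trans (map_zero _).symm)
  rw [Module.Flat.rTensor_preserves_injective_linearMap φ hφ (h2.trans (map_zero _).symm), map_zero]

/-- Quotient by a product of two elements, one regular: flat if both factors are. -/
theorem flat_quot_mul {R A : Type u} [CommRing R] [CommRing A] (φ : R →+* A) {f g : A}
    (hf : f ∈ nonZeroDivisors A)
    (h1 : ((Ideal.Quotient.mk (Ideal.span {f})).comp φ).Flat)
    (h2 : ((Ideal.Quotient.mk (Ideal.span {g})).comp φ).Flat) :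
    ((Ideal.Quotient.mk (Ideal.span {f * g})).comp φ).Flat := by
  algebraize [φ]
  haveI : Module.Flat R (A ⧸ Ideal.span {f}) := h1
  haveI : Module.Flat R (A ⧸ Ideal.span {g}) := h2
  change Module.Flat R (A ⧸ Ideal.span {f * g})
  let i : (A ⧸ Ideal.span {g}) →ₗ[R] (A ⧸ Ideal.span {f * g}) :=
    (Submodule.mapQ (Ideal.span {g}) (Ideal.span {f * g}) (LinearMap.mulLeft A f) (by
      intro x hx
      obtain ⟨c, rfl⟩ := Ideal.mem_span_singleton'.mp hx
      rw [Submodule.mem_comap, LinearMap.mulLeft_apply]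
      exact Ideal.mem_span_singleton'.mpr ⟨c, by ring⟩)).restrictScalars R
  let p : (A ⧸ Ideal.span {f * g}) →ₗ[R] (A ⧸ Ideal.span {f}) :=
    (Submodule.factor (p := Ideal.span {f * g}) (p' := Ideal.span {f})
      (Ideal.span_singleton_le_span_singleton.mpr (dvd_mul_right f g))).restrictScalars R
  refine flat_mid_of_exact i p ?_ ?_ ?_
  · rw [injective_iff_map_eq_zero]
    intro x hx
    obtain ⟨x, rfl⟩ := Submodule.Quotient.mk_surjective _ x
    have hx' : f * x ∈ Ideal.span {f * g} := (Submodule.Quotient.mk_eq_zero _).mp hx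
    obtain ⟨c, hc⟩ := Ideal.mem_span_singleton'.mp hx'
    rw [Submodule.Quotient.mk_eq_zero, Ideal.mem_span_singleton']
    exact ⟨c, (mul_cancel_left_mem_nonZeroDivisors hf).mp (by rw [← hc]; ring)⟩
  · intro x
    obtain ⟨x, rfl⟩ := Submodule.Quotient.mk_surjective _ x
    constructor
    · intro hx
      have hx' : x ∈ Ideal.span {f} := (Submodule.Quotient.mk_eq_zero _).mp hx
      obtain ⟨c, rfl⟩ := Ideal.mem_span_singleton'.mp hx'
      exact ⟨Submodule.Quotient.mk c, congrArg Submodule.Quotient.mk (mul_comm f c)⟩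
    · rintro ⟨y, hy⟩
      obtain ⟨y, rfl⟩ := Submodule.Quotient.mk_surjective _ y
      rw [← hy]
      exact (Submodule.Quotient.mk_eq_zero _).mpr (Ideal.mem_span_singleton'.mpr ⟨y, mul_comm y f⟩)
  · intro x
    obtain ⟨x, rfl⟩ := Submodule.Quotient.mk_surjective _ x
    exact ⟨Submodule.Quotient.mk x, rfl⟩

/-- Cancellation: if `A/(f)` and `A/(fg)` are flat then so is `A/(g)`. -/
theorem flat_quot_of_mul {R A : Type u} [CommRing R] [CommRing A] (φ : R →+* A) {f g : A}
    (hf : f ∈ nonZeroDivisors A)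
    (h1 : ((Ideal.Quotient.mk (Ideal.span {f})).comp φ).Flat)
    (h2 : ((Ideal.Quotient.mk (Ideal.span {f * g})).comp φ).Flat) :
    ((Ideal.Quotient.mk (Ideal.span {g})).comp φ).Flat := by
  algebraize [φ]
  haveI : Module.Flat R (A ⧸ Ideal.span {f}) := h1
  haveI : Module.Flat R (A ⧸ Ideal.span {f * g}) := h2
  change Module.Flat R (A ⧸ Ideal.span {g})
  let i : (A ⧸ Ideal.span {g}) →ₗ[R] (A ⧸ Ideal.span {f * g}) :=
    (Submodule.mapQ (Ideal.span {g}) (Ideal.span {f * g}) (LinearMap.mulLeft A f) (by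
      intro x hx
      obtain ⟨c, rfl⟩ := Ideal.mem_span_singleton'.mp hx
      rw [Submodule.mem_comap, LinearMap.mulLeft_apply]
      exact Ideal.mem_span_singleton'.mpr ⟨c, by ring⟩)).restrictScalars R
  let p : (A ⧸ Ideal.span {f * g}) →ₗ[R] (A ⧸ Ideal.span {f}) :=
    (Submodule.factor (p := Ideal.span {f * g}) (p' := Ideal.span {f})
      (Ideal.span_singleton_le_span_singleton.mpr (dvd_mul_right f g))).restrictScalars R
  refine Groth.Agent.H8Props.flat_of_exact i p ?_ ?_ ?_
  · rw [injective_iff_map_eq_zero]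
    intro x hx
    obtain ⟨x, rfl⟩ := Submodule.Quotient.mk_surjective _ x
    have hx' : f * x ∈ Ideal.span {f * g} := (Submodule.Quotient.mk_eq_zero _).mp hx
    obtain ⟨c, hc⟩ := Ideal.mem_span_singleton'.mp hx'
    rw [Submodule.Quotient.mk_eq_zero, Ideal.mem_span_singleton']
    exact ⟨c, (mul_cancel_left_mem_nonZeroDivisors hf).mp (by rw [← hc]; ring)⟩
  · intro x
    obtain ⟨x, rfl⟩ := Submodule.Quotient.mk_surjective _ x
    constructor
    · intro hx
      have hx' : x ∈ Ideal.span {f} := (Submodule.Quotient.mk_eq_zero _).mp hx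
      obtain ⟨c, rfl⟩ := Ideal.mem_span_singleton'.mp hx'
      exact ⟨Submodule.Quotient.mk c, congrArg Submodule.Quotient.mk (mul_comm f c)⟩
    · rintro ⟨y, hy⟩
      obtain ⟨y, rfl⟩ := Submodule.Quotient.mk_surjective _ y
      rw [← hy]
      exact (Submodule.Quotient.mk_eq_zero _).mpr (Ideal.mem_span_singleton'.mpr ⟨y, mul_comm y f⟩)
  · intro x
    obtain ⟨x, rfl⟩ := Submodule.Quotient.mk_surjective _ x
    exact ⟨Submodule.Quotient.mk x, rfl⟩

variable {X S : Scheme.{u}}

lemma subscheme_appLE_flat_iff (f : X ⟶ S) (I : X.IdealSheafData) (U : S.affineOpens)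
    (V : X.affineOpens) (e : V.1 ≤ f ⁻¹ᵁ U.1) :
    ((I.subschemeι ≫ f).appLE U.1 (I.subschemeι ⁻¹ᵁ V.1)
        (fun y hy => e hy)).hom.Flat ↔
      ((Ideal.Quotient.mk (I.ideal V)).comp (f.appLE U.1 V.1 e).hom).Flat := by
  rw [← Scheme.Hom.appLE_comp_appLE I.subschemeι f U.1 V.1 (I.subschemeι ⁻¹ᵁ V.1) e le_rfl,
    ← Scheme.Hom.app_eq_appLE, Scheme.IdealSheafData.subschemeι_app, ← Category.assoc,
    CommRingCat.hom_comp, RingHom.Flat.respectsIso.cancel_right_isIso, CommRingCat.hom_comp,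
    CommRingCat.hom_ofHom]

/-- A closed subscheme is flat over the base iff locally the quotient rings are flat. -/
lemma flat_subscheme_iff (f : X ⟶ S) (I : X.IdealSheafData) :
    Flat (I.subschemeι ≫ f) ↔ ∀ x ∈ I.support, ∃ (U : S.affineOpens) (V : X.affineOpens)
      (_ : x ∈ V.1) (e : V.1 ≤ f ⁻¹ᵁ U.1),
        ((Ideal.Quotient.mk (I.ideal V)).comp (f.appLE U.1 V.1 e).hom).Flat := by
  have hQ : RingHom.StableUnderCompositionWithLocalizationAwaySource
      (fun {R S} [CommRing R] [CommRing S] f => @RingHom.Flat R S _ _ f) :=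
    (RingHom.Flat.stableUnderComposition.stableUnderCompositionWithLocalizationAway
      RingHom.Flat.holdsForLocalizationAway).1
  constructor
  · intro h x _
    obtain ⟨U, V, hxV, e⟩ := exists_affine_le f x
    refine ⟨U, V, hxV, e, (subscheme_appLE_flat_iff f I U V e).mp ?_⟩
    exact HasRingHomProperty.appLE @Flat (I.subschemeι ≫ f) h U
      ⟨I.subschemeι ⁻¹ᵁ V.1, V.2.preimage I.subschemeι⟩ _
  · intro h
    rw [HasRingHomProperty.iff_exists_appLE (P := @Flat) hQ]
    intro z
    have hz : I.subschemeι z ∈ I.support := by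
      have : I.subschemeι z ∈ Set.range I.subschemeι := ⟨z, rfl⟩
      rwa [Scheme.IdealSheafData.range_subschemeι] at this
    obtain ⟨U, V, hxV, e, hflat⟩ := h _ hz
    exact ⟨U, ⟨_, V.2.preimage I.subschemeι⟩, hxV, fun y hy => e hy,
      (subscheme_appLE_flat_iff f I U V e).mpr hflat⟩

lemma flat_appLE_quot (f : X ⟶ S) (I : X.IdealSheafData) [Flat (I.subschemeι ≫ f)]
    (U : S.affineOpens) (V : X.affineOpens) (e : V.1 ≤ f ⁻¹ᵁ U.1) :
    ((Ideal.Quotient.mk (I.ideal V)).comp (f.appLE U.1 V.1 e).hom).Flat :=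
  (subscheme_appLE_flat_iff f I U V e).mp
    (HasRingHomProperty.appLE @Flat (I.subschemeι ≫ f) inferInstance U
      ⟨I.subschemeι ⁻¹ᵁ V.1, V.2.preimage I.subschemeι⟩ _)

lemma flat_mul (f : X ⟶ S) {I J : X.IdealSheafData} (hI : BlowUp.IsEffCartierIdeal I)
    (hJ : BlowUp.IsEffCartierIdeal J) [Flat (I.subschemeι ≫ f)] [Flat (J.subschemeι ≫ f)] :
    Flat ((I * J).subschemeι ≫ f) := by
  rw [flat_subscheme_iff]
  intro x _
  obtain ⟨U, V, hxV, e⟩ := exists_affine_le f x
  obtain ⟨W, hxW, hWV, a, ha, haW⟩ := exists_gen hI hxV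
  obtain ⟨T, hxT, hTW, c, hc, hcT⟩ := exists_gen hJ hxW
  have e' : T.1 ≤ f ⁻¹ᵁ U.1 := fun y hy => e (hWV (hTW hy))
  refine ⟨U, T, hxT, e', ?_⟩
  have h1 := flat_appLE_quot f I U T e'
  have h2 := flat_appLE_quot f J U T e'
  have haT := ideal_eq_span_res hTW haW
  rw [haT] at h1
  rw [hcT] at h2
  rw [Scheme.IdealSheafData.ideal_mul, Pi.mul_apply, haT, hcT,
    Ideal.span_singleton_mul_span_singleton]
  exact flat_quot_mul _ (res_mem_nonZeroDivisors hTW ha) h1 h2

lemma flat_of_mul (f : X ⟶ S) {I J : X.IdealSheafData} (hI : BlowUp.IsEffCartierIdeal I)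
    (hJ : BlowUp.IsEffCartierIdeal J) [Flat (I.subschemeι ≫ f)]
    [Flat ((I * J).subschemeι ≫ f)] : Flat (J.subschemeι ≫ f) := by
  rw [flat_subscheme_iff]
  intro x _
  obtain ⟨U, V, hxV, e⟩ := exists_affine_le f x
  obtain ⟨W, hxW, hWV, a, ha, haW⟩ := exists_gen hI hxV
  obtain ⟨T, hxT, hTW, c, hc, hcT⟩ := exists_gen hJ hxW
  have e' : T.1 ≤ f ⁻¹ᵁ U.1 := fun y hy => e (hWV (hTW hy))
  refine ⟨U, T, hxT, e', ?_⟩
  have h1 := flat_appLE_quot f I U T e'
  have h2 := flat_appLE_quot f (I * J) U T e'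
  have haT := ideal_eq_span_res hTW haW
  rw [Scheme.IdealSheafData.ideal_mul, Pi.mul_apply, haT, hcT,
    Ideal.span_singleton_mul_span_singleton] at h2
  rw [haT] at h1
  rw [hcT]
  exact flat_quot_of_mul _ (res_mem_nonZeroDivisors hTW ha) h1 h2

end H29Blow
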