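import Groth.Agent.H29Blow.Relative

/-!
Flatness along an effective Cartier divisor.
-/

universe u

open CategoryTheory Limits AlgebraicGeometry TopologicalSpace
open scoped TensorProduct

namespace H29Blow

section Algebra

variable {R A : Type u} [CommRing R] [CommRing A] [Algebra R A] {f : A}

/-- A regular element acts injectively on `A ⊗ N` when `A/(f)` is flat. -/
lemma smul_tensor_injective (hf : f ∈ nonZeroDivisors A) [Module.Flat R (A ⧸ Ideal.span {f})]
    (N : Type u) [AddCommGroup N] [Module R N] :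
    Function.Injective (fun z : A ⊗[R] N => f • z) := by
  let g : A →ₗ[R] A := (LinearMap.mulLeft A f).restrictScalars R
  let q : A →ₗ[R] (A ⧸ Ideal.span {f}) := (Ideal.Quotient.mkₐ R _).toLinearMap
  have hg : Function.Injective g := fun a b h =>
    (mul_cancel_left_mem_nonZeroDivisors hf).mp h
  have hex : Function.Exact g q := by
    intro a
    constructor
    · intro ha
      obtain ⟨c, rfl⟩ := Ideal.mem_span_singleton'.mp (Ideal.Quotient.eq_zero_iff_mem.mp ha)
      exact ⟨c, mul_comm f c⟩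
    · rintro ⟨c, rfl⟩
      exact Ideal.Quotient.eq_zero_iff_mem.mpr (Ideal.mem_span_singleton'.mpr ⟨c, mul_comm c f⟩)
  have hinj := LinearMap.lTensor_injective_of_exact_of_flat q Ideal.Quotient.mk_surjective g hg hex N
  rw [LinearMap.lTensor_inj_iff_rTensor_inj] at hinj
  have heq : (fun z : A ⊗[R] N => f • z) = g.rTensor N := by
    funext z
    induction z using TensorProduct.induction_on with
    | zero => simp
    | tmul a b => simp [g, TensorProduct.smul_tmul']
    | add a b ha hb => simp [ha, hb, smul_add]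
  rw [heq]
  exact hinj

/-- If `f` is regular and both `A/(f)` and `A[1/f]` are flat, then `A` is flat. -/
theorem flat_of_flat_quot_of_flat_away (hf : f ∈ nonZeroDivisors A)
    (Af : Type u) [CommRing Af] [Algebra A Af] [Algebra R Af] [IsScalarTower R A Af]
    [IsLocalization.Away f Af] [Module.Flat R (A ⧸ Ideal.span {f})] [Module.Flat R Af] :
    Module.Flat R A := by
  rw [Module.Flat.iff_lTensor_preserves_injective_linearMap]
  intro N N' _ _ _ _ φ hφ
  rw [injective_iff_map_eq_zero]
  intro z hz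
  let ι : A →ₗ[A] Af := Algebra.linearMap A Af
  let L : A ⊗[R] N →ₗ[A] Af ⊗[R] N := TensorProduct.AlgebraTensorModule.rTensor R N ι
  have h0 : L z = 0 := by
    apply Module.Flat.lTensor_preserves_injective_linearMap φ hφ
    have hsq : ∀ w, φ.lTensor Af (L w) =
        TensorProduct.AlgebraTensorModule.rTensor R N' ι (φ.lTensor A w) := fun w => by
      induction w using TensorProduct.induction_on with
      | zero => simp
      | tmul a b => simp [L]
      | add a b ha hb => simp [ha, hb]
    rw [hsq, hz, map_zero, map_zero]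
  haveI : IsLocalizedModule (Submonoid.powers f) L :=
    inferInstanceAs (IsLocalizedModule (Submonoid.powers f)
      (TensorProduct.AlgebraTensorModule.rTensor R N ι))
  obtain ⟨⟨_, n, rfl⟩, hn⟩ := (IsLocalizedModule.eq_zero_iff (Submonoid.powers f) L).mp h0
  have hn' : f ^ n • z = 0 := hn
  clear hn h0 hz
  induction n with
  | zero => simpa using hn'
  | succ n ih =>
    apply ih
    apply smul_tensor_injective hf N
    simp only [smul_zero]
    rw [← mul_smul, ← pow_succ']
    exact hn'

/-- Over a Noetherian local ring, flatness can be checked modulo a regular element of the maximal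
ideal. -/
theorem flat_of_flat_quot_of_isLocalRing [IsLocalRing A] [IsNoetherianRing A]
    (hfm : f ∈ IsLocalRing.maximalIdeal A) (hf : f ∈ nonZeroDivisors A)
    [Module.Flat R (A ⧸ Ideal.span {f})] : Module.Flat R A := by
  refine ⟨fun P _ _ _ N hN => ?_⟩
  letI : AddCommGroup P := Module.addCommMonoidToAddCommGroup R
  rw [← LinearMap.lTensor_inj_iff_rTensor_inj]
  haveI : Module.Finite R N := Module.Finite.iff_fg.mpr hN
  let L : A ⊗[R] N →ₗ[A] A ⊗[R] P := TensorProduct.AlgebraTensorModule.lTensor A A N.subtype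
  suffices h : LinearMap.ker L = ⊥ from fun a b hab => LinearMap.ker_eq_bot.mp h hab
  let q : A →ₗ[R] (A ⧸ Ideal.span {f}) := (Ideal.Quotient.mkₐ R _).toLinearMap
  let g : A →ₗ[R] A := (LinearMap.mulLeft A f).restrictScalars R
  have hex : Function.Exact g q := by
    intro a
    constructor
    · intro ha
      obtain ⟨c, rfl⟩ := Ideal.mem_span_singleton'.mp (Ideal.Quotient.eq_zero_iff_mem.mp ha)
      exact ⟨c, mul_comm f c⟩
    · rintro ⟨c, rfl⟩
      exact Ideal.Quotient.eq_zero_iff_mem.mpr (Ideal.mem_span_singleton'.mpr ⟨c, mul_comm c f⟩)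
  refine Submodule.eq_bot_of_le_smul_of_le_jacobson_bot (Ideal.span {f}) _
    (IsNoetherian.noetherian _) (fun z hz => ?_) ?_
  · have hz' : N.subtype.lTensor A z = 0 := hz
    have hq : q.rTensor N z = 0 := by
      apply Module.Flat.lTensor_preserves_injective_linearMap N.subtype N.injective_subtype
      rw [← LinearMap.comp_apply, LinearMap.lTensor_comp_rTensor, ← LinearMap.rTensor_comp_lTensor,
        LinearMap.comp_apply, hz', map_zero, map_zero]
    obtain ⟨w, rfl⟩ := (rTensor_exact N hex Ideal.Quotient.mk_surjective z).mp hq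
    have hw : ∀ v : A ⊗[R] N, g.rTensor N v = f • v := fun v => by
      induction v using TensorProduct.induction_on with
      | zero => simp
      | tmul a b => simp [g, TensorProduct.smul_tmul']
      | add a b ha hb => simp [ha, hb, smul_add]
    rw [hw] at hz ⊢
    refine Submodule.smul_mem_smul (Ideal.mem_span_singleton_self f) ?_
    rw [LinearMap.mem_ker] at hz ⊢
    rw [map_smul] at hz
    exact smul_tensor_injective hf P (hz.trans (smul_zero f).symm)
  · rw [IsLocalRing.jacobson_eq_maximalIdeal _ bot_ne_top, Ideal.span_le, Set.singleton_subset_iff]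
    exact hfm

end Algebra

variable {X S : Scheme.{u}} (φ : X ⟶ S) {I : X.IdealSheafData}

lemma flat_of_flat_subscheme_of_flat_off (hI : BlowUp.IsEffCartierIdeal I)
    [Flat (I.subschemeι ≫ φ)]
    (hflat : ∀ x : X, x ∉ I.support → (φ.stalkMap x).hom.Flat) : Flat φ := by
  have hQ : RingHom.StableUnderCompositionWithLocalizationAwaySource
      (fun {R S} [CommRing R] [CommRing S] f => @RingHom.Flat R S _ _ f) :=
    (RingHom.Flat.stableUnderComposition.stableUnderCompositionWithLocalizationAway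
      RingHom.Flat.holdsForLocalizationAway).1
  rw [HasRingHomProperty.iff_exists_appLE (P := @Flat) hQ]
  intro x
  obtain ⟨U, hU, hxU, -⟩ := exists_isAffineOpen_mem_and_subset (Opens.mem_top (φ x))
  obtain ⟨V, hxV, e, a, ha, haV⟩ := exists_gen hI (W := φ ⁻¹ᵁ U) (x := x) hxU
  refine ⟨⟨U, hU⟩, V, hxV, e, ?_⟩
  have h1 := flat_appLE_quot φ I ⟨U, hU⟩ V e
  rw [haV] at h1
  let T : X.affineOpens := X.affineBasicOpen a
  have hTV : T.1 ≤ V.1 := X.basicOpen_le a
  haveI : Flat (T.1.ι ≫ φ) := by
    refine HasRingHomProperty.of_stalkMap (P := @Flat) RingHom.Flat.ofLocalizationPrime fun z => ?_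
    have hz : T.1.ι z ∉ I.support :=
      basicOpen_disjoint_support (haV ▸ Ideal.mem_span_singleton_self a) z.2
    rw [Scheme.Hom.stalkMap_comp]
    erw [CommRingCat.hom_comp, RingHom.Flat.respectsIso.cancel_right_isIso]
    exact hflat _ hz
  have h2 := flat_appLE φ ⟨U, hU⟩ T (hTV.trans e)
  algebraize [(φ.appLE U V.1 e).hom]
  letI : Algebra Γ(S, U) Γ(X, T.1) := (φ.appLE U T.1 (hTV.trans e)).hom.toAlgebra
  letI : Algebra Γ(X, V.1) Γ(X, T.1) := (X.presheaf.map (homOfLE hTV).op).hom.toAlgebra
  haveI : IsLocalization.Away a Γ(X, T.1) := V.2.isLocalization_basicOpen a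
  haveI : IsScalarTower Γ(S, U) Γ(X, V.1) Γ(X, T.1) := .of_algebraMap_eq fun r =>
    (congrArg (fun k => k r) (φ.appLE_map (U := U) e (homOfLE hTV).op)).symm
  haveI : Module.Flat Γ(S, U) (Γ(X, V.1) ⧸ Ideal.span {a}) := h1
  haveI : Module.Flat Γ(S, U) Γ(X, T.1) := h2
  exact flat_of_flat_quot_of_flat_away ha Γ(X, T.1)

lemma flat_stalkMap_of_noetherian (hI : BlowUp.IsEffCartierIdeal I)
    [Flat (I.subschemeι ≫ φ)] {x : X} (hx : x ∈ I.support)
    [IsNoetherianRing (X.presheaf.stalk x)] : (φ.stalkMap x).hom.Flat := by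
  obtain ⟨U, hU, hxU, -⟩ := exists_isAffineOpen_mem_and_subset (Opens.mem_top (φ x))
  obtain ⟨V, hxV, e, a, ha, haV⟩ := exists_gen hI (W := φ ⁻¹ᵁ U) (x := x) hxU
  have h1 := flat_appLE_quot φ I ⟨U, hU⟩ V e
  rw [haV] at h1
  letI := X.presheaf.algebra_section_stalk (⟨x, hxV⟩ : V.1)
  haveI := V.2.isLocalization_stalk ⟨x, hxV⟩
  letI := S.presheaf.algebra_section_stalk (⟨φ x, e hxV⟩ : U)
  haveI := hU.isLocalization_stalk ⟨φ x, e hxV⟩
  algebraize [(φ.appLE U V.1 e).hom, (φ.stalkMap x).hom]
  letI : Algebra Γ(S, U) (X.presheaf.stalk x) :=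
    ((X.presheaf.germ V.1 x hxV).hom.comp (φ.appLE U V.1 e).hom).toAlgebra
  haveI : IsScalarTower Γ(S, U) Γ(X, V.1) (X.presheaf.stalk x) := .of_algebraMap_eq' rfl
  haveI : IsScalarTower Γ(S, U) (S.presheaf.stalk (φ x)) (X.presheaf.stalk x) :=
    .of_algebraMap_eq fun r => by
      change X.presheaf.germ V.1 x hxV (φ.appLE U V.1 e r) =
        φ.stalkMap x (S.presheaf.germ U (φ x) (e hxV) r)
      rw [Scheme.Hom.germ_stalkMap_apply]
      simp [Scheme.Hom.appLE, TopCat.Presheaf.germ_res_apply]
  set g := algebraMap Γ(X, V.1) (X.presheaf.stalk x) a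
  have hgreg : g ∈ nonZeroDivisors (X.presheaf.stalk x) := by
    haveI : Module.Flat Γ(X, V.1) (X.presheaf.stalk x) :=
      IsLocalization.flat _ (V.2.primeIdealOf ⟨x, hxV⟩).asIdeal.primeCompl
    exact mem_nonZeroDivisors_map_of_flat (RingHom.flat_algebraMap_iff.mpr inferInstance) ha
  have hgm : g ∈ IsLocalRing.maximalIdeal (X.presheaf.stalk x) := by
    have := (Scheme.IdealSheafData.mem_support_iff_of_mem (U := V) hxV).mp hx
    rw [Scheme.mem_zeroLocus_iff] at this
    have := this a (haV ▸ Ideal.mem_span_singleton_self a)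
    rw [X.mem_basicOpen _ x hxV] at this
    exact this
  haveI : Module.Flat Γ(S, U) (X.presheaf.stalk x ⧸ Ideal.span {g}) := by
    have h2 : Ideal.span {g} = (Ideal.span {a}).map (algebraMap Γ(X, V.1) (X.presheaf.stalk x)) := by
      rw [Ideal.map_span, Set.image_singleton]
    haveI : Module.Flat Γ(S, U) (Γ(X, V.1) ⧸ Ideal.span {a}) := h1
    rw [h2]
    haveI : IsLocalization (Algebra.algebraMapSubmonoid (Γ(X, V.1) ⧸ Ideal.span {a})
        (V.2.primeIdealOf ⟨x, hxV⟩).asIdeal.primeCompl)
        (X.presheaf.stalk x ⧸ (Ideal.span {a}).map (algebraMap Γ(X, V.1) (X.presheaf.stalk x))) :=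
      inferInstance
    haveI : Module.Flat (Γ(X, V.1) ⧸ Ideal.span {a})
        (X.presheaf.stalk x ⧸ (Ideal.span {a}).map (algebraMap Γ(X, V.1) (X.presheaf.stalk x))) :=
      IsLocalization.flat _ (Algebra.algebraMapSubmonoid (Γ(X, V.1) ⧸ Ideal.span {a})
        (V.2.primeIdealOf ⟨x, hxV⟩).asIdeal.primeCompl)
    haveI : IsScalarTower Γ(S, U) (Γ(X, V.1) ⧸ Ideal.span {a})
        (X.presheaf.stalk x ⧸ (Ideal.span {a}).map (algebraMap Γ(X, V.1) (X.presheaf.stalk x))) :=
      .of_algebraMap_eq fun r => rfl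
    exact Module.Flat.trans Γ(S, U) (Γ(X, V.1) ⧸ Ideal.span {a}) _
  haveI := flat_of_flat_quot_of_isLocalRing (R := Γ(S, U)) hgm hgreg
  change Module.Flat (S.presheaf.stalk (φ x)) (X.presheaf.stalk x)
  rw [Module.flat_iff_of_isLocalization (R := Γ(S, U)) (S.presheaf.stalk (φ x))
    (hU.primeIdealOf ⟨φ x, e hxV⟩).asIdeal.primeCompl]
  infer_instance

end H29Blow
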